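import Cfsg.Agent.Omega.TV.Form

/-!
# The conjugation representation over `𝔽₂` on an elementary abelian subgroup

helper895, OMEGA / II.d.  `EA N h` is the subgroup `N` with `x * x = 1`, written additively, as an
`𝔽₂`-module; `crep` the action of a subgroup `C` normalizing `N`.
-/

namespace Cfsg.Agent.Omega.TV

open Module

variable {G : Type*} [Group G]

/-- The elementary abelian subgroup `N`, additively. -/
def EA (N : Subgroup G) (_h : ∀ x ∈ N, x * x = 1) : Type _ := Additive N

namespace EA

variable {N : Subgroup G} {h : ∀ x ∈ N, x * x = 1}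

theorem comm_of {N : Subgroup G} (h : ∀ x ∈ N, x * x = 1) {a b : G} (ha : a ∈ N) (hb : b ∈ N) :
    a * b = b * a := by
  have h1 := h _ (N.mul_mem ha hb)
  have h2 := h a ha
  have h3 := h b hb
  have ha' : a⁻¹ = a := inv_eq_of_mul_eq_one_left h2
  have hb' : b⁻¹ = b := inv_eq_of_mul_eq_one_left h3
  have h4 : (a * b)⁻¹ = a * b := inv_eq_of_mul_eq_one_left h1
  rw [mul_inv_rev, ha', hb'] at h4
  exact h4.symm

instance : AddCommGroup (EA N h) :=
  { (inferInstance : AddGroup (Additive N)) with
    add_comm := by
      rintro ⟨a, ha⟩ ⟨b, hb⟩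
      exact congrArg Additive.ofMul (Subtype.ext (comm_of h ha hb)) }

instance : Module (ZMod 2) (EA N h) :=
  AddCommGroup.zmodModule (n := 2) (by
    intro x
    rw [two_nsmul]
    exact congrArg Additive.ofMul (Subtype.ext (h _ (Additive.toMul x : N).2)))

instance [Finite G] : Finite (EA N h) := inferInstanceAs (Finite N)

/-- The element of `G`. -/
def val (a : EA N h) : G := ((Additive.toMul (a : Additive N) : N) : G)

/-- The vector of an element of `N`. -/
def mk (h : ∀ x ∈ N, x * x = 1) (x : G) (hx : x ∈ N) : EA N h := Additive.ofMul (⟨x, hx⟩ : N)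

theorem val_mem (a : EA N h) : a.val ∈ N := (Additive.toMul (a : Additive N) : N).2

@[simp] theorem val_mk {x : G} (hx : x ∈ N) : (mk h x hx).val = x := rfl

@[simp] theorem mk_val (a : EA N h) : mk h a.val a.val_mem = a := rfl

theorem ext {a b : EA N h} (e : a.val = b.val) : a = b :=
  congrArg Additive.ofMul (Subtype.ext e)

theorem val_inj {a b : EA N h} : a.val = b.val ↔ a = b := ⟨ext, fun e => e ▸ rfl⟩

@[simp] theorem val_add (a b : EA N h) : (a + b).val = a.val * b.val := rfl

@[simp] theorem val_zero : (0 : EA N h).val = 1 := rfl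

theorem val_eq_one {a : EA N h} : a.val = 1 ↔ a = 0 := by
  rw [← val_zero (h := h), val_inj]

theorem val_smul (c : ZMod 2) (a : EA N h) : (c • a).val = 1 ∨ (c • a).val = a.val := by
  rcases z2 c with rfl | rfl
  · left; rw [zero_smul]; rfl
  · right; rw [one_smul]

/-- The conjugation representation. -/
def crep (h : ∀ x ∈ N, x * x = 1) (C : Subgroup G) (hC : ∀ c ∈ C, ∀ n ∈ N, c * n * c⁻¹ ∈ N) :
    C →* (EA N h ≃ₗ[ZMod 2] EA N h) where
  toFun g :=
    { ((AddMonoidHom.toZModLinearMap 2
        ({ toFun := fun a => mk h ((g : G) * a.val * (g : G)⁻¹) (hC g g.2 _ a.val_mem)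
           map_zero' := by
            apply ext
            simp
           map_add' := by
            intro a b
            apply ext
            simp only [val_mk, val_add]
            group } : EA N h →+ EA N h)) : EA N h →ₗ[ZMod 2] EA N h) with
      invFun := fun a => mk h ((g : G)⁻¹ * a.val * (g : G)) (by
        have := hC _ (C.inv_mem g.2) _ a.val_mem
        simpa using this)
      left_inv := by
        intro a
        apply ext
        show (g : G)⁻¹ * ((g : G) * a.val * (g : G)⁻¹) * (g : G) = a.val
        group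
      right_inv := by
        intro a
        apply ext
        show (g : G) * ((g : G)⁻¹ * a.val * (g : G)) * (g : G)⁻¹ = a.val
        group }
  map_one' := by
    ext a
    apply ext
    show ((1 : C) : G) * a.val * ((1 : C) : G)⁻¹ = a.val
    simp
  map_mul' := by
    intro g g'
    ext a
    apply ext
    show ((g * g' : C) : G) * a.val * ((g * g' : C) : G)⁻¹
      = (g : G) * ((g' : G) * a.val * (g' : G)⁻¹) * (g : G)⁻¹
    rw [Subgroup.coe_mul]
    group

@[simp] theorem val_crep {C : Subgroup G} {hC : ∀ c ∈ C, ∀ n ∈ N, c * n * c⁻¹ ∈ N} (g : C)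
    (a : EA N h) : (crep h C hC g a).val = (g : G) * a.val * (g : G)⁻¹ := rfl

end EA

end Cfsg.Agent.Omega.TV
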