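import Cfsg.Agent.Omega.TV.Basic

/-!
# THEOREM TV (2)(i): at least two nontrivial transvections with the same centre

helper895, OMEGA / II.d, paper text bb #13722.  All points of a component are adjacent.
-/

namespace Cfsg.Agent.Omega.TV

open Module

variable {H : Type*} [Group H] {V : Type*} [AddCommGroup V] [Module (ZMod 2) V]
  {ρ : H →* (V ≃ₗ[ZMod 2] V)} {Om : Set V}

namespace Sys

/-- Every point has, for every vector `s`, a nonzero functional killing `s`. -/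
def Big (ρ : H →* (V ≃ₗ[ZMod 2] V)) (Om : Set V) : Prop :=
  ∀ r ∈ Om, ∀ s : V, ∃ κ, κ ≠ 0 ∧ Fn ρ r κ ∧ κ s = 0

theorem big_of (h : Sys ρ Om) {r : V} (hr : r ∈ Om) {φ ψ : Dual (ZMod 2) V} (hφ : Fn ρ r φ)
    (hψ : Fn ρ r ψ) (h1 : φ ≠ 0) (h2 : ψ ≠ 0) (h3 : φ ≠ ψ) : Big ρ Om := by
  intro t ht s
  obtain ⟨g, hg⟩ := h.trans r hr t ht
  have hinj : ∀ α β : Dual (ZMod 2) V, α ∘ₗ (ρ g⁻¹ : V ≃ₗ[ZMod 2] V).toLinearMap =
      β ∘ₗ (ρ g⁻¹ : V ≃ₗ[ZMod 2] V).toLinearMap → α = β := by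
    intro α β he
    ext x
    have := LinearMap.congr_fun he (ρ g x)
    simpa using this
  set φ' := φ ∘ₗ (ρ g⁻¹ : V ≃ₗ[ZMod 2] V).toLinearMap with hφ'
  set ψ' := ψ ∘ₗ (ρ g⁻¹ : V ≃ₗ[ZMod 2] V).toLinearMap with hψ'
  have e1 : Fn ρ t φ' := hg ▸ hφ.conj g
  have e2 : Fn ρ t ψ' := hg ▸ hψ.conj g
  have e3 : φ' ≠ 0 := fun e => h1 (hinj φ 0 (by rw [← hφ', e, LinearMap.zero_comp]))
  have e4 : ψ' ≠ 0 := fun e => h2 (hinj ψ 0 (by rw [← hψ', e, LinearMap.zero_comp]))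
  have e5 : φ' ≠ ψ' := fun e => h3 (hinj φ ψ e)
  rcases z2 (φ' s) with a | a
  · exact ⟨φ', e3, e1, a⟩
  rcases z2 (ψ' s) with b | b
  · exact ⟨ψ', e4, e2, b⟩
  refine ⟨φ' + ψ', fun e => e5 ?_, e1.add e2, ?_⟩
  · ext x
    have h4 := LinearMap.congr_fun e x
    simp only [LinearMap.add_apply, LinearMap.zero_apply] at h4
    rcases z2 (φ' x) with c | c <;> rcases z2 (ψ' x) with d | d <;> rw [c, d] at h4 ⊢ <;>
      simp at h4
  · rw [LinearMap.add_apply, a, b]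
    exact z2_add_self 1

theorem core [Finite V] (h : Sys ρ Om) (hb : Big ρ Om) {y y' v u : V} {χ : Dual (ZMod 2) V}
    (hy : y ∈ Om) (hy' : y' ∈ Om) (hv : v ∈ Om) (hu : u ∈ Om) (hn : ¬ Adj ρ y y')
    (h1 : Adj ρ v y) (h2 : Adj ρ v y') (hχ : Fn ρ u χ) (e1 : χ y = 1) (e2 : χ y' = 0)
    (huv : Adj ρ u v) : False := by
  have huy : Adj ρ u y := ⟨χ, hχ, e1⟩
  have hn' : ¬ Adj ρ u y' := by
    intro ha
    have := h.agree hy hy' hu hn huy ha hχ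
    rw [e1, e2] at this
    exact one_ne_zero this
  have hvu := h.symm hu hv huv
  obtain ⟨κ, hκ0, hκ, k1⟩ := hb v hv y
  have k2 : κ y' = 0 := by rw [← h.agree hy hy' hv hn h1 h2 hκ, k1]
  have k3 : κ u = 0 := by rw [h.agree hu hy' hv hn' hvu h2 hκ, k2]
  have f1 := h.fn_of_adj hv hy h1 hκ k1
  have f2 := h.fn_of_adj hv hy' h2 hκ k2
  have f3 := h.fn_of_adj hv hu hvu hκ k3
  obtain ⟨w, hw, hw1⟩ := h.exists_one hκ0
  obtain ⟨φ, hφ, p1⟩ := h.symm hu hy huy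
  have f4 := Fn.cc f3 hφ
  rw [p1, one_smul, f1.1, zero_smul, add_zero] at f4
  have hm : u + y ∈ Om := h.add_mem hu ⟨φ, hφ, p1⟩
  obtain ⟨ψ, hψ, q1⟩ := h.symm hm hw ⟨κ, f4, hw1⟩
  have w1 := h.symm hy hw ⟨κ, f1, hw1⟩
  have w2 := h.symm hy' hw ⟨κ, f2, hw1⟩
  have w3 := h.symm hu hw ⟨κ, f3, hw1⟩
  have g1 := h.agree hy hy' hw hn w1 w2 hψ
  have g2 := h.agree hu hy' hw hn' w3 w2 hψ
  rw [map_add, g1, g2, z2_add_self] at q1
  exact zero_ne_one q1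

theorem core' [Finite V] (h : Sys ρ Om) (hb : Big ρ Om) {y y' v u : V} {χ : Dual (ZMod 2) V}
    (hy : y ∈ Om) (hy' : y' ∈ Om) (hv : v ∈ Om) (hu : u ∈ Om) (hn : ¬ Adj ρ y y')
    (h1 : Adj ρ v y) (h2 : Adj ρ v y') (hχ : Fn ρ u χ) (e1 : χ y = 1) (e2 : χ y' = 0) :
    False := by
  by_cases huv : Adj ρ u v
  · exact h.core hb hy hy' hv hu hn h1 h2 hχ e1 e2 huv
  have huy : Adj ρ u y := ⟨χ, hχ, e1⟩
  obtain ⟨φ, hφ, p1⟩ := h.symm hu hy huy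
  have hm : u + y ∈ Om := h.add_mem hu ⟨φ, hφ, p1⟩
  have f := Fn.cc hχ hφ
  rw [p1, e1, one_smul, one_smul] at f
  have p2 : φ y' = 0 := z2_ne_one fun e => hn ⟨φ, hφ, e⟩
  obtain ⟨ψ, hψ, q1⟩ := h1
  have q2 : ψ u = 0 := z2_ne_one fun e => huv (h.symm hv hu ⟨ψ, hψ, e⟩)
  refine h.core hb hy hy' hv hm hn ⟨ψ, hψ, q1⟩ h2 f ?_ ?_ ?_
  · rw [LinearMap.add_apply, e1, hφ.1, add_zero]
  · rw [LinearMap.add_apply, e2, p2, add_zero]
  · exact h.symm hv hm ⟨ψ, hψ, by rw [map_add, q2, q1, zero_add]⟩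

/-- **TV (2)(i)**: two different points with a common neighbour are adjacent. -/
theorem adj_of_near [Finite V] (h : Sys ρ Om) (hb : Big ρ Om) {y y' : V} (hy : y ∈ Om)
    (hy' : y' ∈ Om) (hne : y ≠ y') (hnear : Near ρ Om y y') : Adj ρ y y' := by
  by_contra hn
  obtain ⟨v, hv, a1, h2⟩ := hnear
  have h1 := h.symm hy hv a1
  have hn' : ¬ Adj ρ y' y := fun e => hn (h.symm hy' hy e)
  have hrad : y + y' ∈ rad ρ Om := by
    intro u hu χ hχ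
    rw [map_add]
    rcases z2 (χ y) with e1 | e1 <;> rcases z2 (χ y') with e2 | e2
    · rw [e1, e2, add_zero]
    · exact (h.core' hb hy' hy hv hu hn' h2 h1 hχ e2 e1).elim
    · exact (h.core' hb hy hy' hv hu hn h1 h2 hχ e1 e2).elim
    · rw [e1, e2]; exact z2_add_self 1
  obtain ⟨κ, hκ0, hκ, k1⟩ := hb v hv y
  have k2 : κ y' = 0 := by rw [← h.agree hy hy' hv hn h1 h2 hκ, k1]
  have f1 := h.fn_of_adj hv hy h1 hκ k1
  have f2 := h.fn_of_adj hv hy' h2 hκ k2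
  exact add_ne_zero_of_ne hne (h.no_rad_centre hy hrad f1 (f1.addc f2) hκ0)

end Sys

end Cfsg.Agent.Omega.TV
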