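import Cfsg.Agent.Omega.TV.Basic

/-!
# THEOREM TV: one class of points (`d = 1` of bb #12430, #12999, #13722)

helper304.  `Clo`: the classes of `Near` together with `0` are subspaces (output of TV (2)).
`near_all`: if a 2-group `S` fixes (modulo a radical, see `π`) only `0` and the point `r`, all points lie in
the class of `r`; `all_mem`: then every vector `≠ 0` is a point.
-/

set_option autoImplicit false

namespace Cfsg.Agent.Omega.TV

open Module

variable {H : Type*} [Group H] {V : Type*} [AddCommGroup V] [Module (ZMod 2) V]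
  {ρ : H →* (V ≃ₗ[ZMod 2] V)} {Om : Set V}

namespace Sys

/-- The classes of points, together with `0`, are closed under addition. -/
def Clo (ρ : H →* (V ≃ₗ[ZMod 2] V)) (Om : Set V) : Prop :=
  ∀ b ∈ Om, ∀ c ∈ Om, Near ρ Om b c → b ≠ c → b + c ∈ Om ∧ Near ρ Om b (b + c)

theorem Near.conj (h : Sys ρ Om) {a b : V} (hn : Near ρ Om a b) (g : H) : Near ρ Om (ρ g a) (ρ g b) := by
  obtain ⟨v, hv, h1, h2⟩ := hn
  exact ⟨ρ g v, h.inv g v hv, h1.conj g, h2.conj g⟩

variable [Finite V]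

/-- The output of TV (2) is enough for `Clo`. -/
theorem clo_of (h : Sys ρ Om)
    (hadd : ∀ b ∈ Om, ∀ c ∈ Om, Near ρ Om b c → b ≠ c → b + c ∈ Om) : Clo ρ Om := by
  intro b hb c hc hn hne
  have hm := hadd b hb c hc hn hne
  refine ⟨hm, ?_⟩
  obtain ⟨v, hv, ha⟩ := h.exists_adj hm
  obtain ⟨φ, hφ, h1⟩ := h.symm hm hv ha
  rw [map_add] at h1
  have hvm : Adj ρ v (b + c) := ⟨φ, hφ, by rw [map_add]; exact h1⟩
  by_cases h2 : φ b = 1
  · exact ⟨v, hv, h.symm hv hb ⟨φ, hφ, h2⟩, hvm⟩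
  · rw [z2_ne_one h2, zero_add] at h1
    exact h.near_trans hb hc hm hn ⟨v, hv, h.symm hv hc ⟨φ, hφ, h1⟩, hvm⟩

/-- The class of `r`, together with `0`. -/
def cls (h : Sys ρ Om) (hc : Clo ρ Om) {r : V} (hr : r ∈ Om) : Submodule (ZMod 2) V where
  carrier := {x | x = 0 ∨ (x ∈ Om ∧ Near ρ Om r x)}
  zero_mem' := Or.inl rfl
  add_mem' := by
    rintro a b (rfl | ⟨ha, hra⟩) (rfl | ⟨hb, hrb⟩)
    · exact Or.inl (add_zero 0)
    · rw [zero_add]; exact Or.inr ⟨hb, hrb⟩
    · rw [add_zero]; exact Or.inr ⟨ha, hra⟩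
    · by_cases hab : a = b
      · subst hab; exact Or.inl (v_add_self a)
      · have h1 := h.near_trans ha hr hb (h.near_symm hr ha hra) hrb
        obtain ⟨h2, h3⟩ := hc a ha b hb h1 hab
        exact Or.inr ⟨h2, h.near_trans hr ha h2 hra h3⟩
  smul_mem' := by
    intro c x hx
    rcases z2 c with rfl | rfl
    · rw [zero_smul]; exact Or.inl rfl
    · rwa [one_smul]

theorem mem_cls (h : Sys ρ Om) (hc : Clo ρ Om) {r x : V} (hr : r ∈ Om) :
    x ∈ h.cls hc hr ↔ x = 0 ∨ (x ∈ Om ∧ Near ρ Om r x) := Iff.rfl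

/-- If all points lie in the class of `r`, every vector different from `0` is a point. -/
theorem all_mem (h : Sys ρ Om) (hc : Clo ρ Om) {r : V} (hr : r ∈ Om)
    (hall : ∀ w ∈ Om, Near ρ Om r w) {v : V} (hv : v ≠ 0) : v ∈ Om := by
  have h1 : Submodule.span (ZMod 2) Om ≤ h.cls hc hr :=
    Submodule.span_le.2 fun w hw => Or.inr ⟨hw, hall w hw⟩
  have h2 : v ∈ h.cls hc hr := h1 (by rw [h.span]; trivial)
  rcases (h.mem_cls hc hr).1 h2 with h3 | h3
  · exact absurd h3 hv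
  · exact h3.1

/-- In every class there is a point fixed by the stabiliser (in the 2-group `S`) of the class. -/
theorem exists_fixed (h : Sys ρ Om) (hc : Clo ρ Om) {S : Subgroup H} (hS : IsPGroup 2 S) {w : V}
    (hw : w ∈ Om) : ∃ y ∈ Om, Near ρ Om w y ∧ ∀ s ∈ S, Near ρ Om y (ρ s y) → ρ s y = y := by
  let K : Subgroup S :=
    { carrier := {s | Near ρ Om w (ρ (s : H) w)}
      one_mem' := by
        show Near ρ Om w (ρ ((1 : S) : H) w)
        rw [Subgroup.coe_one, rone]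
        exact h.near_refl hw
      mul_mem' := by
        intro s t hs ht
        show Near ρ Om w (ρ ((s * t : S) : H) w)
        rw [Subgroup.coe_mul, rmul]
        exact h.near_trans hw (h.inv _ w hw) (h.inv _ _ (h.inv _ w hw)) hs (Near.conj h ht (s : H))
      inv_mem' := by
        intro s hs
        show Near ρ Om w (ρ ((s⁻¹ : S) : H) w)
        have h1 := Near.conj h (show Near ρ Om w (ρ (s : H) w) from hs) ((s : H)⁻¹)
        rw [rinv] at h1
        rw [Subgroup.coe_inv]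
        exact h.near_symm (h.inv _ w hw) hw h1 }
  have hK : ∀ s : K, ∀ x ∈ h.cls hc hw, ρ ((s : S) : H) x ∈ h.cls hc hw := by
    intro s x hx
    rcases (h.mem_cls hc hw).1 hx with rfl | ⟨h1, h2⟩
    · rw [map_zero]; exact (h.cls hc hw).zero_mem
    · exact Or.inr ⟨h.inv _ x h1,
        h.near_trans hw (h.inv _ w hw) (h.inv _ x h1) s.2 (Near.conj h h2 _)⟩
  let _act : MulAction K (h.cls hc hw) :=
    { smul := fun s x => ⟨ρ ((s : S) : H) x, hK s x x.2⟩
      one_smul := fun x => Subtype.ext (by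
        show ρ (((1 : K) : S) : H) (x : V) = x
        rw [Subgroup.coe_one, Subgroup.coe_one, rone])
      mul_smul := fun s t x => Subtype.ext (by
        show ρ (((s * t : K) : S) : H) (x : V) = ρ ((s : S) : H) (ρ ((t : S) : H) x)
        rw [Subgroup.coe_mul, Subgroup.coe_mul, rmul]) }
  have hKp : IsPGroup 2 K := hS.to_subgroup K
  have hw1 : w ∈ h.cls hc hw := Or.inr ⟨hw, h.near_refl hw⟩
  have hcard : 2 ∣ Nat.card (h.cls hc hw) := by
    have h1 : addOrderOf (⟨w, hw1⟩ : h.cls hc hw) = 2 := by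
      refine addOrderOf_eq_prime ?_ ?_
      · rw [two_nsmul]
        exact Subtype.ext (v_add_self w)
      · intro h0
        exact h.ne_zero hw (congrArg Subtype.val h0)
    have h2 := addOrderOf_dvd_natCard (⟨w, hw1⟩ : h.cls hc hw)
    rwa [h1] at h2
  have h0 : (0 : h.cls hc hw) ∈ MulAction.fixedPoints K (h.cls hc hw) := by
    intro s
    exact Subtype.ext (map_zero _)
  obtain ⟨y, hy, hne⟩ := hKp.exists_fixed_point_of_prime_dvd_card_of_fixed_point _ hcard h0
  have hy0 : (y : V) ≠ 0 := fun e => hne (Subtype.ext e.symm)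
  obtain ⟨hyO, hwy⟩ := ((h.mem_cls hc hw).1 y.2).resolve_left hy0
  refine ⟨y, hyO, hwy, fun s hs hn => ?_⟩
  have h2 : Near ρ Om w (ρ s w) :=
    h.near_trans hw hyO (h.inv _ w hw) hwy (h.near_trans hyO (h.inv _ _ hyO) (h.inv _ w hw) hn
      (Near.conj h (h.near_symm hw hyO hwy) s))
  have h3 : (⟨⟨s, hs⟩, h2⟩ : K) • y = y := hy ⟨⟨s, hs⟩, h2⟩
  exact congrArg Subtype.val h3

variable {N : Type*} [AddCommGroup N] [Module (ZMod 2) N] [Finite N]

/-- **`d = 1`**: `π : N → V` equivariant for the 2-group `S`, `OmN` a set of unique representatives of the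
points.  If every vector of `N` fixed by `S` is mapped to `0` or `r`, all points lie in the class of `r`. -/
theorem near_all_lift (h : Sys ρ Om) (hc : Clo ρ Om) {S : Subgroup H} (hS : IsPGroup 2 S)
    (ρN : H →* (N ≃ₗ[ZMod 2] N)) (π : N →ₗ[ZMod 2] V) (hπ : ∀ g : H, ∀ n : N, π (ρN g n) = ρ g (π n))
    {OmN : Set N} (hinv : ∀ s ∈ S, ∀ z ∈ OmN, ρN s z ∈ OmN) (hinj : Set.InjOn π OmN)
    (hsurj : ∀ v ∈ Om, ∃ z ∈ OmN, π z = v) {r : V} (hr : r ∈ Om)
    (hfix : ∀ n : N, (∀ s ∈ S, ρN s n = n) → π n = 0 ∨ π n = r) : ∀ w ∈ Om, Near ρ Om r w := by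
  classical
  intro w hw
  by_contra hcon
  obtain ⟨y, hy, hwy, hst⟩ := h.exists_fixed hc hS hw
  have hry : ¬ Near ρ Om r y := fun hn => hcon (h.near_trans hr hy hw hn (h.near_symm hw hy hwy))
  obtain ⟨y₀, hy₀, hπy⟩ := hsurj y hy
  have : Fintype N := Fintype.ofFinite N
  let O : Finset N := Finset.univ.filter fun z => ∃ s ∈ S, z = ρN s y₀
  have hO : ∀ z, z ∈ O ↔ ∃ s ∈ S, z = ρN s y₀ := fun z => by simp [O]
  let σ : N := ∑ z ∈ O, z
  have hσ : ∀ s ∈ S, ρN s σ = σ := by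
    intro s hs
    have h1 : ρN s σ = ∑ z ∈ O, ρN s z := map_sum _ _ _
    have h2 : O.image (fun z => ρN s z) = O := by
      refine Finset.eq_of_subset_of_card_le ?_ ?_
      · intro z hz
        obtain ⟨x, hx, rfl⟩ := Finset.mem_image.1 hz
        obtain ⟨t, ht, rfl⟩ := (hO x).1 hx
        exact (hO _).2 ⟨s * t, S.mul_mem hs ht, by rw [map_mul]; rfl⟩
      · rw [Finset.card_image_of_injective _ (ρN s).injective]
    rw [h1, ← Finset.sum_image (f := fun z => z) (g := fun z => ρN s z)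
      (fun a _ b _ hab => (ρN s).injective hab), h2]
  obtain ⟨a, ha, hya⟩ := h.exists_adj hy
  obtain ⟨φ, hφ, h1⟩ := h.symm hy ha hya
  have hφσ : φ (π σ) = 1 := by
    have h2 : φ (π σ) = ∑ z ∈ O, φ (π z) := by rw [map_sum, map_sum]
    rw [h2, Finset.sum_eq_single y₀]
    · rw [hπy, h1]
    · intro z hz hne
      obtain ⟨s, hs, rfl⟩ := (hO z).1 hz
      refine z2_ne_one fun e => hne ?_
      rw [hπ, hπy] at e
      have h3 : Near ρ Om y (ρ s y) := ⟨a, ha, hya, φ, hφ, e⟩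
      refine hinj (hinv s hs _ hy₀) hy₀ ?_
      rw [hπ, hπy]
      exact hst s hs h3
    · intro hn
      exact absurd ((hO _).2 ⟨1, S.one_mem, by rw [map_one]; rfl⟩) hn
  have hφr : φ r = 0 := z2_ne_one fun e =>
    hry (h.near_symm hy hr ⟨a, ha, hya, φ, hφ, e⟩)
  rcases hfix σ hσ with h2 | h2
  · rw [h2, map_zero] at hφσ
    exact zero_ne_one hφσ
  · rw [h2, hφr] at hφσ
    exact zero_ne_one hφσ

omit N in
/-- **`d = 1`**, plain form. -/
theorem near_all (h : Sys ρ Om) (hc : Clo ρ Om) {S : Subgroup H} (hS : IsPGroup 2 S) {r : V}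
    (hr : r ∈ Om) (hfix : ∀ v : V, (∀ s ∈ S, ρ s v = v) → v = 0 ∨ v = r) :
    ∀ w ∈ Om, Near ρ Om r w :=
  h.near_all_lift hc hS ρ LinearMap.id (fun _ _ => rfl) (OmN := Om) (fun s _ z hz => h.inv s z hz)
    (fun _ _ _ _ e => e) (fun v hv => ⟨v, hv, rfl⟩) hr hfix

end Sys

end Cfsg.Agent.Omega.TV
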