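import Cfsg.Agent.Omega.TV.Conj

/-!
# THEOREM TV (2) inside a group

helper895, OMEGA / II.d, paper text bb #13722.  `C` acts by conjugation on the elementary abelian
group `N`, generated by the `C`-conjugates of `r`; `GSys` gives `TV.Sys` for the representation
`EA.crep`, and `eq_one_of_fixed` is the group form of `Sys.eq_zero_of_fixed`.
-/

namespace Cfsg.Agent.Omega.TV

open Module

/-- A map which is `x ↦ x` or `x ↦ x + r` pointwise is a transvection (or trivial). -/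
theorem exists_functional {V : Type*} [AddCommGroup V] [Module (ZMod 2) V] (g : V ≃ₗ[ZMod 2] V)
    {r : V} (hr : r ≠ 0) (hg : ∀ x, g x = x ∨ g x = x + r) :
    ∃ φ : Dual (ZMod 2) V, ∀ x, g x = x + φ x • r := by
  classical
  let F : V → ZMod 2 := fun x => if g x = x then 0 else 1
  have hF0 : ∀ x, g x = x → F x = 0 := fun x e => if_pos e
  have hF1 : ∀ x, g x = x + r → F x = 1 := by
    intro x e
    refine if_neg fun e' => hr ?_
    rw [e'] at e
    simpa using e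
  have hadd : ∀ x y, F (x + y) = F x + F y := by
    intro x y
    rcases hg x with a | a <;> rcases hg y with b | b
    · rw [hF0 x a, hF0 y b, hF0 (x + y) (by rw [map_add, a, b]), add_zero]
    · rw [hF0 x a, hF1 y b, hF1 (x + y) (by rw [map_add, a, b, add_assoc]), zero_add]
    · rw [hF1 x a, hF0 y b, hF1 (x + y) (by rw [map_add, a, b]; abel), add_zero]
    · rw [hF1 x a, hF1 y b, hF0 (x + y) (by
        rw [map_add, a, b]
        calc x + r + (y + r) = x + y + (r + r) := by abel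
          _ = x + y := by rw [v_add_self, add_zero])]
      exact (z2_add_self 1).symm
  let φ : Dual (ZMod 2) V := AddMonoidHom.toZModLinearMap 2
    ({ toFun := F, map_zero' := hF0 0 (map_zero g), map_add' := hadd } : V →+ ZMod 2)
  refine ⟨φ, fun x => ?_⟩
  have hφ : φ x = F x := rfl
  rcases hg x with a | a
  · rw [hφ, hF0 x a, zero_smul, add_zero, a]
  · rw [hφ, hF1 x a, one_smul, a]

variable {G : Type*} [Group G]

/-- The subgroup of a submodule of `EA N h`. -/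
def EA.toSub {N : Subgroup G} {h : ∀ x ∈ N, x * x = 1} (U : Submodule (ZMod 2) (EA N h)) :
    Subgroup G where
  carrier := {x | ∃ a ∈ U, EA.val a = x}
  one_mem' := ⟨0, U.zero_mem, rfl⟩
  mul_mem' := by
    rintro _ _ ⟨a, ha, rfl⟩ ⟨b, hb, rfl⟩
    exact ⟨a + b, U.add_mem ha hb, rfl⟩
  inv_mem' := by
    rintro _ ⟨a, ha, rfl⟩
    refine ⟨a, ha, ?_⟩
    have := h a.val a.val_mem
    exact (inv_eq_of_mul_eq_one_left this).symm

theorem EA.mem_toSub {N : Subgroup G} {h : ∀ x ∈ N, x * x = 1} {U : Submodule (ZMod 2) (EA N h)}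
    {x : G} : x ∈ EA.toSub U ↔ ∃ a ∈ U, EA.val a = x := Iff.rfl

theorem EA.val_mem_toSub {N : Subgroup G} {h : ∀ x ∈ N, x * x = 1}
    {U : Submodule (ZMod 2) (EA N h)} {a : EA N h} : a.val ∈ EA.toSub U ↔ a ∈ U := by
  constructor
  · rintro ⟨b, hb, e⟩
    rwa [← EA.ext e]
  · intro ha
    exact ⟨a, ha, rfl⟩

/-- The group data of THEOREM TV: `C` acts on the elementary abelian group `N = ⟨r^C⟩`. -/
structure GSys (C N : Subgroup G) (r : G) : Prop where
  sq : ∀ x ∈ N, x * x = 1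
  nor : ∀ c ∈ C, ∀ n ∈ N, c * n * c⁻¹ ∈ N
  mem : r ∈ N
  ne : r ≠ 1
  gen : N ≤ Subgroup.closure {x | ∃ c ∈ C, x = c * r * c⁻¹}
  chain : ∀ U : Subgroup G, U ≤ N → (∀ c ∈ C, ∀ u ∈ U, c * u * c⁻¹ ∈ U) →
    ∀ c ∈ C, (∀ u ∈ U, c * u * c⁻¹ = u) → (∀ n ∈ N, c * n * c⁻¹ * n⁻¹ ∈ U) →
      ∀ n ∈ N, c * n * c⁻¹ = n

namespace GSys

variable {C N : Subgroup G} {r : G} (h : GSys C N r)

include h

/-- The representation. -/
noncomputable def rep : C →* (EA N h.sq ≃ₗ[ZMod 2] EA N h.sq) := EA.crep h.sq C h.nor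

/-- The points. -/
def pts : Set (EA N h.sq) := {a | ∃ c ∈ C, a.val = c * r * c⁻¹}

@[simp] theorem val_rep (g : C) (a : EA N h.sq) :
    (h.rep g a).val = (g : G) * a.val * (g : G)⁻¹ := rfl

theorem inv_eq {x : G} (hx : x ∈ N) : x⁻¹ = x := inv_eq_of_mul_eq_one_left (h.sq x hx)

theorem mem_pts_r : EA.mk h.sq r h.mem ∈ h.pts := ⟨1, C.one_mem, by simp⟩

/-- A nontrivial transvection `t` with centre `r` gives a functional. -/
theorem exists_fn {s t : G} (hs : s ∈ N) (hs1 : s ≠ 1) (ht : t ∈ C)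
    (htn : ∀ n ∈ N, t * n * t⁻¹ = n ∨ t * n * t⁻¹ = n * s) :
    ∃ φ : Dual (ZMod 2) (EA N h.sq), (∀ a, h.rep ⟨t, ht⟩ a = a + φ a • EA.mk h.sq s hs) ∧
      Fn h.rep (EA.mk h.sq s hs) φ := by
  have hr : EA.mk h.sq s hs ≠ 0 := fun e => hs1 (EA.val_eq_one.2 e)
  obtain ⟨φ, hφ⟩ := exists_functional (h.rep ⟨t, ht⟩) hr (fun a => by
    rcases htn a.val a.val_mem with e | e
    · exact Or.inl (EA.ext e)
    · exact Or.inr (EA.ext e))
  refine ⟨φ, hφ, ?_, ⟨t, ht⟩, hφ⟩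
  by_contra hne
  have h1 := hφ (EA.mk h.sq s hs)
  rw [z2_ne_zero hne, one_smul, v_add_self] at h1
  have h2 : (h.rep ⟨t, ht⟩).toLinearMap (EA.mk h.sq s hs) = 0 := h1
  exact hr ((h.rep ⟨t, ht⟩).map_eq_zero_iff.1 h2)

theorem toSys {t : G} (ht : t ∈ C) (htn : ∀ n ∈ N, t * n * t⁻¹ = n ∨ t * n * t⁻¹ = n * r)
    (hne : ∃ n ∈ N, t * n * t⁻¹ ≠ n) : Sys h.rep h.pts where
  zero := by
    rintro ⟨c, _, e⟩
    have e' : (1 : G) = c * r * c⁻¹ := e
    exact h.ne (conj_eq_one_iff.1 e'.symm)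
  inv := by
    rintro g a ⟨c, hc, e⟩
    refine ⟨g * c, C.mul_mem g.2 hc, ?_⟩
    rw [h.val_rep, e]
    group
  trans := by
    rintro a ⟨c, hc, e⟩ b ⟨d, hd, e'⟩
    refine ⟨⟨d * c⁻¹, C.mul_mem hd (C.inv_mem hc)⟩, EA.ext ?_⟩
    rw [h.val_rep, e, e']
    group
  span := by
    rw [eq_top_iff]
    rintro a -
    have key : ∀ x ∈ Subgroup.closure {x | ∃ c ∈ C, x = c * r * c⁻¹}, ∃ hx : x ∈ N,
        EA.mk h.sq x hx ∈ Submodule.span (ZMod 2) h.pts := by
      intro x hx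
      induction hx using Subgroup.closure_induction with
      | mem x hx =>
        obtain ⟨c, hc, rfl⟩ := hx
        exact ⟨h.nor c hc r h.mem, Submodule.subset_span ⟨c, hc, rfl⟩⟩
      | one => exact ⟨N.one_mem, Submodule.zero_mem _⟩
      | mul x y _ _ hx hy =>
        obtain ⟨hx, ex⟩ := hx
        obtain ⟨hy, ey⟩ := hy
        exact ⟨N.mul_mem hx hy, Submodule.add_mem _ ex ey⟩
      | inv x _ hx =>
        obtain ⟨hx, ex⟩ := hx
        refine ⟨N.inv_mem hx, ?_⟩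
        have e : EA.mk h.sq x⁻¹ (N.inv_mem hx) = EA.mk h.sq x hx := EA.ext (h.inv_eq hx)
        rw [e]
        exact ex
    exact (key a.val (h.gen a.val_mem)).2
  ex := by
    obtain ⟨φ, hφ, hfn⟩ := h.exists_fn h.mem h.ne ht htn
    refine ⟨_, h.mem_pts_r, φ, ?_, hfn⟩
    rintro rfl
    obtain ⟨n, hn, e⟩ := hne
    apply e
    have h1 := hφ (EA.mk h.sq n hn)
    rw [LinearMap.zero_apply, zero_smul, add_zero] at h1
    exact congrArg EA.val h1
  chain := by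
    intro U hU g h1 h2 v
    apply EA.ext
    rw [h.val_rep]
    refine h.chain (EA.toSub U) ?_ ?_ g g.2 ?_ ?_ v.val v.val_mem
    · rintro _ ⟨a, _, rfl⟩
      exact a.val_mem
    · rintro c hc _ ⟨a, ha, rfl⟩
      exact ⟨_, hU ⟨c, hc⟩ a ha, rfl⟩
    · rintro _ ⟨a, ha, rfl⟩
      exact congrArg EA.val (h1 a ha)
    · intro n hn
      have h3 := h2 (EA.mk h.sq n hn)
      refine ⟨_, h3, ?_⟩
      rw [EA.val_add, h.val_rep, EA.val_mk, h.inv_eq hn]

/-- **Group form of TV (2), corollary**: if some transvection `t` with centre `r` centralizes the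
conjugate `p` of `r` and `r * p` is a conjugate of `r` too, then `C_N(C) = 1`. -/
theorem eq_one_of_fixed [Finite G] {p t : G} (ht : t ∈ C)
    (htn : ∀ n ∈ N, t * n * t⁻¹ = n ∨ t * n * t⁻¹ = n * r) (hne : ∃ n ∈ N, t * n * t⁻¹ ≠ n)
    (hp : ∃ c ∈ C, p = c * r * c⁻¹) (hrp : ∃ c ∈ C, r * p = c * r * c⁻¹)
    (htp : t * p * t⁻¹ = p) {v : G} (hv : v ∈ N) (hfix : ∀ c ∈ C, c * v * c⁻¹ = v) : v = 1 := by
  have hsys := h.toSys ht htn hne
  obtain ⟨c, hc, rfl⟩ := hp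
  obtain ⟨d, hd, hd'⟩ := hrp
  have hpN : c * r * c⁻¹ ∈ N := h.nor c hc r h.mem
  obtain ⟨φ, hφ, hfn⟩ := h.exists_fn h.mem h.ne ht htn
  have hne' : φ ≠ 0 := by
    rintro rfl
    obtain ⟨n, hn, e⟩ := hne
    apply e
    have h1 := hφ (EA.mk h.sq n hn)
    rw [LinearMap.zero_apply, zero_smul, add_zero] at h1
    exact congrArg EA.val h1
  have h0 : φ (EA.mk h.sq _ hpN) = 0 := by
    by_contra hcon
    have h1 := hφ (EA.mk h.sq _ hpN)
    rw [z2_ne_zero hcon, one_smul] at h1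
    have h2 := congrArg EA.val h1
    rw [h.val_rep, EA.val_add, EA.val_mk, EA.val_mk] at h2
    have h3 : t * (c * r * c⁻¹) * t⁻¹ = c * r * c⁻¹ * r := h2
    rw [htp] at h3
    exact h.ne (by simpa using h3)
  have hfix' : ∀ g : C, h.rep g (EA.mk h.sq v hv) = EA.mk h.sq v hv := fun g =>
    EA.ext (hfix g g.2)
  have := hsys.eq_zero_of_fixed h.mem_pts_r (p := EA.mk h.sq _ hpN) ⟨c, hc, rfl⟩
    ⟨d, hd, hd'⟩ hfn hne' h0 hfix'
  exact EA.val_eq_one.2 this

end GSys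

end Cfsg.Agent.Omega.TV
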