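import Cfsg.Agent.Omega.TV.One
import Cfsg.Agent.Omega.TV.Big
import Cfsg.Agent.Omega.TV.Group

/-!
# THEOREM TV, the `GL_n` case: every transvection is induced

helper64, OMEGA / II.d, case A (bb #14186, #14872).

* `Sys.full` : one class + `Big` : every transvection of `V` is induced by `H`.
* `AllTv C N` : group language: for `U ≤ N`, `u ∈ U`, `a ∈ N - U` some `t ∈ C` centralizes `U`, maps `a` to
  `a * u` and is a transvection with centre `u`.
* `GSys.allTv_of_full`.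
-/

set_option autoImplicit false

namespace Cfsg.Agent.Omega.TV

open Module

section

variable {H : Type*} [Group H] {V : Type*} [AddCommGroup V] [Module (ZMod 2) V]
  {ρ : H →* (V ≃ₗ[ZMod 2] V)} {Om : Set V}

/-- The functionals of the induced transvections with centre `u`. -/
def fnSub (ρ : H →* (V ≃ₗ[ZMod 2] V)) (u : V) : Submodule (ZMod 2) (Dual (ZMod 2) V) where
  carrier := {φ | Fn ρ u φ}
  zero_mem' := Fn.zero u
  add_mem' := fun h h' => Fn.add h h'
  smul_mem' := by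
    intro c φ h
    rcases z2 c with rfl | rfl
    · rw [zero_smul]; exact Fn.zero u
    · rwa [one_smul]

theorem Sys.full [Finite V] (h : Sys ρ Om) (hb : Sys.Big ρ Om) (hc : Sys.Clo ρ Om) {r : V} (hr : r ∈ Om)
    (hall : ∀ w ∈ Om, Sys.Near ρ Om r w) {u : V} {φ : Dual (ZMod 2) V} (hφ : φ u = 0) : Fn ρ u φ := by
  classical
  by_cases hu0 : u = 0
  · subst hu0
    exact ⟨hφ, 1, fun x => by simp⟩
  have hu : u ∈ Om := h.all_mem hc hr hall hu0
  by_contra hn
  have hn' : φ ∉ fnSub ρ u := hn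
  obtain ⟨f, hf1, hf2⟩ := Submodule.exists_le_ker_of_notMem hn'
  obtain ⟨x, hx⟩ := (Module.evalEquiv (ZMod 2) V).surjective f
  have hx' : ∀ ψ : Dual (ZMod 2) V, f ψ = ψ x := by
    intro ψ; rw [← hx]; rfl
  have h1 : φ x ≠ 0 := by rw [← hx']; exact hf1
  have hx0 : x ≠ 0 := by rintro rfl; exact h1 (map_zero φ)
  have hxO : x ∈ Om := h.all_mem hc hr hall hx0
  have hux : u ≠ x := by rintro rfl; exact h1 hφ
  have hn1 : Sys.Near ρ Om u x := h.near_trans hu hr hxO (h.near_symm hr hu (hall u hu)) (hall x hxO)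
  obtain ⟨ψ, hψ, h2⟩ := h.adj_of_near hb hu hxO hux hn1
  have h3 : f ψ = 0 := hf2 (show ψ ∈ fnSub ρ u from hψ)
  rw [hx', h2] at h3
  exact one_ne_zero h3

end

variable {G : Type*} [Group G]

/-- Every transvection of the elementary abelian group `N` is induced by `C`. -/
def AllTv (C N : Subgroup G) : Prop :=
  ∀ U : Subgroup G, U ≤ N → ∀ u ∈ U, ∀ a ∈ N, a ∉ U →
    ∃ t ∈ C, (∀ n ∈ U, t * n * t⁻¹ = n) ∧ t * a * t⁻¹ = a * u ∧
      ∀ n ∈ N, t * n * t⁻¹ = n ∨ t * n * t⁻¹ = n * u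

/-- The submodule of `EA N h` of a subgroup `U ≤ N`. -/
def EA.ofSub {N : Subgroup G} {h : ∀ x ∈ N, x * x = 1} (U : Subgroup G) : Submodule (ZMod 2) (EA N h) where
  carrier := {a | a.val ∈ U}
  zero_mem' := U.one_mem
  add_mem' := fun ha hb => U.mul_mem ha hb
  smul_mem' := by
    intro c a ha
    rcases z2 c with rfl | rfl
    · rw [zero_smul]; exact U.one_mem
    · rwa [one_smul]

theorem EA.mem_ofSub {N : Subgroup G} {h : ∀ x ∈ N, x * x = 1} {U : Subgroup G} {a : EA N h} :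
    a ∈ (EA.ofSub U : Submodule (ZMod 2) (EA N h)) ↔ a.val ∈ U := Iff.rfl

namespace GSys

variable {C N : Subgroup G} {r : G} (h : GSys C N r)

include h

theorem allTv_of_full (hf : ∀ (u : EA N h.sq) (φ : Dual (ZMod 2) (EA N h.sq)), φ u = 0 → Fn h.rep u φ) :
    AllTv C N := by
  intro U hU u hu a ha haU
  let aa := EA.mk h.sq a ha
  let uu := EA.mk h.sq u (hU hu)
  have h1 : aa ∉ (EA.ofSub U : Submodule (ZMod 2) (EA N h.sq)) := haU
  obtain ⟨φ, hφ1, hφ2⟩ := Submodule.exists_le_ker_of_notMem h1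
  have hφa : φ aa = 1 := z2_ne_zero hφ1
  have hφu : φ uu = 0 := hφ2 (show uu ∈ EA.ofSub U from hu)
  obtain ⟨_, g, hg⟩ := hf uu φ hφu
  refine ⟨g, g.2, ?_, ?_, ?_⟩
  · intro n hn
    have h2 := hg (EA.mk h.sq n (hU hn))
    have h3 : φ (EA.mk h.sq n (hU hn)) = 0 := hφ2 (show EA.mk h.sq n (hU hn) ∈ EA.ofSub U from hn)
    rw [h3, zero_smul, add_zero] at h2
    exact congrArg EA.val h2
  · have h2 := hg aa
    rw [hφa, one_smul] at h2
    exact congrArg EA.val h2
  · intro n hn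
    have h2 := hg (EA.mk h.sq n hn)
    rcases z2 (φ (EA.mk h.sq n hn)) with e | e
    · left
      rw [e, zero_smul, add_zero] at h2
      exact congrArg EA.val h2
    · right
      rw [e, one_smul] at h2
      exact congrArg EA.val h2

/-- **`GL_n` case, group form** : `Big` and one class. -/
theorem allTv [Finite G] {t : G} (ht : t ∈ C) (htn : ∀ n ∈ N, t * n * t⁻¹ = n ∨ t * n * t⁻¹ = n * r)
    (hne : ∃ n ∈ N, t * n * t⁻¹ ≠ n) (hb : Sys.Big h.rep h.pts) (hc : Sys.Clo h.rep h.pts)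
    (hall : ∀ w ∈ h.pts, Sys.Near h.rep h.pts (EA.mk h.sq r h.mem) w) : AllTv C N :=
  h.allTv_of_full fun _ _ hφ => (h.toSys ht htn hne).full hb hc h.mem_pts_r hall hφ

end GSys

end Cfsg.Agent.Omega.TV
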