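import Cfsg.Agent.Omega.TV.SymFix
import Cfsg.Agent.Omega.TV.Full

/-!
# THEOREM TV: `V` is a hyperbolic line or every transvection is induced

helper64 (bb #14186, #14872).  A 2-group `S` fixes the point `r` and a line `{r, u, r + u}` with `u` adjacent to
`r`, and `C_V(S) ≤ ⟨r⟩ + C_V(H)`.
-/

set_option autoImplicit false

namespace Cfsg.Agent.Omega.TV

open Module

variable {H : Type*} [Group H] {V : Type*} [AddCommGroup V] [Module (ZMod 2) V]
  {ρ : H →* (V ≃ₗ[ZMod 2] V)} {Om : Set V}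

theorem Sys.dich [Finite V] (h : Sys ρ Om) {S : Subgroup H} (hS : IsPGroup 2 S)
    {r u : V} (hr : r ∈ Om) (hu : u ∈ Om) (ha : Adj ρ r u) (hsr : ∀ s ∈ S, ρ s r = r)
    (hsu : ∀ s ∈ S, ρ s u = u ∨ ρ s u = r + u)
    (hfix : ∀ v : V, (∀ s ∈ S, ρ s v = v) → ∃ y, (∀ g : H, ρ g y = y) ∧ (v = y ∨ v = r + y)) :
    (∀ w : V, w = 0 ∨ w = r ∨ w = u ∨ w = r + u) ∨
      ∀ (u : V) (φ : Dual (ZMod 2) V), φ u = 0 → Fn ρ u φ := by
  rcases h.small_or_big with hs | hb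
  · exact Or.inl (h.four' hs hS hr hu ha hsr hsu hfix)
  right
  have hadd : ∀ b ∈ Om, ∀ c ∈ Om, Sys.Near ρ Om b c → b ≠ c → b + c ∈ Om := by
    intro b hb' c hc hn hne
    have h1 := h.adj_of_near hb hb' hc hne hn
    have h2 := h.add_mem hc h1
    rwa [add_comm] at h2
  have hrad := Sys.rad_eq_bot_of h hadd
  have h0 : ∀ y : V, (∀ g : H, ρ g y = y) → y = 0 := fun y hy => by
    have := h.rad_of_fixed hy
    rwa [hrad, Submodule.mem_bot] at this
  have hc := h.clo_of hadd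
  have hall := h.near_all hc hS hr (fun v hv => by
    obtain ⟨y, hy, h1 | h1⟩ := hfix v hv
    · left; rw [h1, h0 y hy]
    · right; rw [h1, h0 y hy, add_zero])
  exact fun u φ hφ => h.full hb hc hr hall hφ

/-- **Group form.** -/
theorem GSys.dich {G : Type*} [Group G] [Finite G] {C N : Subgroup G} {r : G} (h : GSys C N r) {t u : G}
    (ht : t ∈ C) (htn : ∀ n ∈ N, t * n * t⁻¹ = n ∨ t * n * t⁻¹ = n * r) (hu : ∃ c ∈ C, u = c * r * c⁻¹)
    (hut : t * u * t⁻¹ ≠ u) {T : Subgroup G} (hT : IsPGroup 2 T) (hTr : ∀ x ∈ T, x * r * x⁻¹ = r)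
    (hTu : ∀ x ∈ T, x * u * x⁻¹ = u ∨ x * u * x⁻¹ = r * u) (hTC : T ≤ C)
    (hfix : ∀ n ∈ N, (∀ x ∈ T, x * n * x⁻¹ = n) → ∃ y ∈ N, (∀ c ∈ C, c * y * c⁻¹ = y) ∧ (n = y ∨ n = r * y)) :
    (∀ w ∈ N, w = 1 ∨ w = r ∨ w = u ∨ w = r * u) ∨ AllTv C N := by
  have huN : u ∈ N := by
    obtain ⟨c, hc, rfl⟩ := hu
    exact h.nor c hc r h.mem
  obtain ⟨φ, hφ, hfn⟩ := h.exists_fn h.mem h.ne ht htn
  have hφu : φ (EA.mk h.sq u huN) = 1 := by
    by_contra hcon
    have h1 := hφ (EA.mk h.sq u huN)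
    rw [z2_ne_one hcon, zero_smul, add_zero] at h1
    exact hut (congrArg EA.val h1)
  have hsys := h.toSys ht htn ⟨u, huN, hut⟩
  have hS : IsPGroup 2 (T.subgroupOf C) := hT.comap_of_injective C.subtype C.subtype_injective
  rcases hsys.dich hS h.mem_pts_r (u := EA.mk h.sq u huN) hu ⟨φ, hfn, hφu⟩
      (fun s hs => EA.ext (hTr s hs)) (fun s hs => (hTu s hs).imp (fun e => EA.ext e) (fun e => EA.ext e))
      (fun v hv => by
        obtain ⟨y, hy, h1, h2⟩ := hfix v.val v.val_mem (fun x hx => congrArg EA.val (hv ⟨x, hTC hx⟩ hx))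
        exact ⟨EA.mk h.sq y hy, fun g => EA.ext (h1 g g.2), h2.imp (fun e => EA.ext e) (fun e => EA.ext e)⟩)
    with h1 | h1
  · left
    intro w hw
    rcases h1 (EA.mk h.sq w hw) with e | e | e | e
    · exact Or.inl (congrArg EA.val e)
    · exact Or.inr (Or.inl (congrArg EA.val e))
    · exact Or.inr (Or.inr (Or.inl (congrArg EA.val e)))
    · exact Or.inr (Or.inr (Or.inr (congrArg EA.val e)))
  · exact Or.inr (h.allTv_of_full h1)

end Cfsg.Agent.Omega.TV
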