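import Cfsg.Agent.Omega.TV.LiftOf

/-!
# (B1) inside a group: the orthogonal module

helper304, OMEGA / II.d.  `C` acts by conjugation on the elementary abelian group `N = ⟨r^C⟩` and
centralises `c ∈ N`.  `Qg C r` is `0` on `{1} ∪ r^C` and `1` elsewhere, `Bg C r` its polar function.
`GSys.gorth`: a Sylow 2-subgroup `T` of `C` centralises `r` and `C_N(T) ≤ {1, c, r, rc}`, some `t ∈ C` acts
nontrivially on `N` with `[N, t] ≤ {1, c, r, rc}` and centralises `p`, where `p`, `rp` are conjugate to `r`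
under `C`: then `Qg C r` is a quadratic form on `N` with radical `{1, c}` of the polar form, `Qg C r c = 1`,
and `C` induces all reflections in the vectors `z c`, `z ∈ r^C`.
-/

set_option autoImplicit false

namespace Cfsg.Agent.Omega.TV

open Module

variable {G : Type*} [Group G]

/-- `0` on `{1} ∪ r^C`, `1` elsewhere. -/
noncomputable def Qg (C : Subgroup G) (r x : G) : ZMod 2 :=
  open Classical in if x = 1 ∨ ∃ g ∈ C, x = g * r * g⁻¹ then 0 else 1

/-- The polar function of `Qg`. -/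
noncomputable def Bg (C : Subgroup G) (r x y : G) : ZMod 2 := Qg C r (x * y) + Qg C r x + Qg C r y

theorem Qg_eq_zero {C : Subgroup G} {r x : G} : Qg C r x = 0 ↔ x = 1 ∨ ∃ g ∈ C, x = g * r * g⁻¹ := by
  unfold Qg
  split_ifs with h <;> simp [h]

theorem Qg_one {C : Subgroup G} {r : G} : Qg C r 1 = 0 := Qg_eq_zero.2 (Or.inl rfl)

theorem Qg_conj {C : Subgroup G} {r g : G} (hg : g ∈ C) : Qg C r (g * r * g⁻¹) = 0 :=
  Qg_eq_zero.2 (Or.inr ⟨g, hg, rfl⟩)

theorem Qg_self {C : Subgroup G} {r : G} : Qg C r r = 0 :=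
  Qg_eq_zero.2 (Or.inr ⟨1, C.one_mem, by simp⟩)

/-- The orthogonal module `N` of `C`, with singular vector `r` and radical vector `c`. -/
structure GOrth (C N : Subgroup G) (r c : G) : Prop where
  sq : ∀ x ∈ N, x * x = 1
  nor : ∀ g ∈ C, ∀ x ∈ N, g * x * g⁻¹ ∈ N
  r_mem : r ∈ N
  c_mem : c ∈ N
  c_fix : ∀ g ∈ C, g * c * g⁻¹ = c
  add : ∀ x ∈ N, ∀ y ∈ N, ∀ z ∈ N, Bg C r x (y * z) = Bg C r x y + Bg C r x z
  comm : ∀ x ∈ N, ∀ y ∈ N, Bg C r x y = Bg C r y x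
  self : ∀ x ∈ N, Bg C r x x = 0
  inv : ∀ g ∈ C, ∀ x ∈ N, Qg C r (g * x * g⁻¹) = Qg C r x
  Qc : Qg C r c = 1
  Bc : ∀ x ∈ N, Bg C r c x = 0
  rad : ∀ x ∈ N, (∀ y ∈ N, Bg C r x y = 0) → x = 1 ∨ x = c
  refl : ∀ z ∈ N, z ≠ 1 → Qg C r z = 0 → ∃ g ∈ C, ∀ n ∈ N,
    (Bg C r z n = 0 ∧ g * n * g⁻¹ = n) ∨ (Bg C r z n = 1 ∧ g * n * g⁻¹ = n * (z * c))

namespace GSys

variable {C N : Subgroup G} {r : G} (h : GSys C N r)

include h

theorem Qf_eq {x : G} (hx : x ∈ N) :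
    Qf {a | ∃ g, h.rep g (EA.mk h.sq r h.mem) = a} (EA.mk h.sq x hx) = Qg C r x := by
  rcases z2 (Qg C r x) with e | e
  · rw [e]
    rcases Qg_eq_zero.1 e with h1 | ⟨g, hg, h1⟩
    · exact Qf_eq_zero.2 (Or.inl (EA.ext h1))
    · exact Qf_eq_zero.2 (Or.inr ⟨⟨g, hg⟩, EA.ext h1.symm⟩)
  · rw [e]
    refine z2_ne_zero fun e' => ?_
    have h0 : Qg C r x = 0 := by
      rcases Qf_eq_zero.1 e' with h1 | ⟨g, h1⟩
      · exact Qg_eq_zero.2 (Or.inl (EA.val_eq_one.2 h1))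
      · exact Qg_eq_zero.2 (Or.inr ⟨g, g.2, (congrArg EA.val h1).symm⟩)
    rw [e] at h0
    exact one_ne_zero h0

theorem Bf_eq {x y : G} (hx : x ∈ N) (hy : y ∈ N) :
    Bf {a | ∃ g, h.rep g (EA.mk h.sq r h.mem) = a} (EA.mk h.sq x hx) (EA.mk h.sq y hy) = Bg C r x y := by
  unfold Bf Bg
  have e : EA.mk h.sq x hx + EA.mk h.sq y hy = EA.mk h.sq (x * y) (N.mul_mem hx hy) := rfl
  rw [e, h.Qf_eq, h.Qf_eq, h.Qf_eq]

theorem span_top : Submodule.span (ZMod 2) {a | ∃ g, h.rep g (EA.mk h.sq r h.mem) = a} = ⊤ := by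
  rw [eq_top_iff]
  rintro a -
  have key : ∀ x ∈ Subgroup.closure {x | ∃ c ∈ C, x = c * r * c⁻¹}, ∃ hx : x ∈ N,
      EA.mk h.sq x hx ∈ Submodule.span (ZMod 2) {a | ∃ g, h.rep g (EA.mk h.sq r h.mem) = a} := by
    intro x hx
    induction hx using Subgroup.closure_induction with
    | mem x hx =>
      obtain ⟨c, hc, rfl⟩ := hx
      exact ⟨h.nor c hc r h.mem, Submodule.subset_span ⟨⟨c, hc⟩, rfl⟩⟩
    | one => exact ⟨N.one_mem, Submodule.zero_mem _⟩
    | mul x y _ _ hx hy =>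
      obtain ⟨hx, ex⟩ := hx
      obtain ⟨hy, ey⟩ := hy
      exact ⟨N.mul_mem hx hy, Submodule.add_mem _ ex ey⟩
    | inv x _ hx =>
      obtain ⟨hx, ex⟩ := hx
      refine ⟨N.inv_mem hx, ?_⟩
      have e : EA.mk h.sq x⁻¹ (N.inv_mem hx) = EA.mk h.sq x hx := EA.ext (h.inv_eq hx)
      rw [e]
      exact ex
  exact (key a.val (h.gen a.val_mem)).2

/-- **(B1) inside a group.** -/
theorem gorth [Finite G] {T : Subgroup G} {c p t : G} (hTC : T ≤ C) (hT : IsPGroup 2 T)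
    (hi : ¬ 2 ∣ T.relIndex C) (hc : c ∈ N) (hc1 : c ≠ 1) (hcC : ∀ g ∈ C, g * c * g⁻¹ = c)
    (hTr : ∀ t ∈ T, t * r * t⁻¹ = r)
    (hfix : ∀ n ∈ N, (∀ t ∈ T, t * n * t⁻¹ = n) → n = 1 ∨ n = c ∨ n = r ∨ n = r * c)
    (hp : ∃ g ∈ C, p = g * r * g⁻¹) (hrp : ∃ g ∈ C, r * p = g * r * g⁻¹) (ht : t ∈ C)
    (htq : ∀ n ∈ N, t * n * t⁻¹ = n ∨ t * n * t⁻¹ = n * c ∨ t * n * t⁻¹ = n * r ∨
      t * n * t⁻¹ = n * (r * c))
    (hne : ∃ n ∈ N, t * n * t⁻¹ ≠ n) (htp : t * p * t⁻¹ = p) :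
    GOrth C N r c ∧ Bg C r r p = 0 ∧ ∀ n ∈ N,
      (Bg C r r n = 0 ∧ t * n * t⁻¹ = n) ∨ (Bg C r r n = 1 ∧ t * n * t⁻¹ = n * (r * c)) := by
  obtain ⟨gp, hgp, hp⟩ := hp
  obtain ⟨gq, hgq, hrp⟩ := hrp
  have hpN : p ∈ N := by rw [hp]; exact h.nor gp hgp r h.mem
  have hH : Hyp h.rep (T.subgroupOf C) (EA.mk h.sq r h.mem) (EA.mk h.sq c hc) (EA.mk h.sq p hpN)
      (⟨t, ht⟩ : C) :=
    { hT := hT.of_equiv (Subgroup.subgroupOfEquivOfLe hTC).symm
      hi := hi
      c_ne := fun e => hc1 (EA.val_eq_one.2 e)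
      c_fix := fun g => EA.ext (hcC g g.2)
      span := h.span_top
      r_fix := fun s hs => EA.ext (hTr s hs)
      fix := fun n hn => by
        rcases hfix n.val n.val_mem (fun s hs => congrArg EA.val (hn ⟨s, hTC hs⟩ hs)) with e | e | e | e
        · exact Or.inl (EA.ext e)
        · exact Or.inr (Or.inl (EA.ext e))
        · exact Or.inr (Or.inr (Or.inl (EA.ext e)))
        · exact Or.inr (Or.inr (Or.inr (EA.ext e)))
      p_mem := ⟨⟨gp, hgp⟩, EA.ext hp.symm⟩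
      rp_mem := ⟨⟨gq, hgq⟩, EA.ext hrp.symm⟩
      t_quad := fun n => by
        rcases htq n.val n.val_mem with e | e | e | e
        · exact Or.inl (EA.ext e)
        · exact Or.inr (Or.inl (EA.ext e))
        · exact Or.inr (Or.inr (Or.inl (EA.ext e)))
        · exact Or.inr (Or.inr (Or.inr (EA.ext e)))
      t_ne := by
        obtain ⟨n, hn, e⟩ := hne
        exact ⟨EA.mk h.sq n hn, fun e' => e (congrArg EA.val e')⟩
      t_p := EA.ext htp }
  obtain ⟨f, hO, h0, ht0⟩ := hH.orth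
  have hB : ∀ x y : EA N h.sq, f x y = Bg C r x.val y.val := by
    intro x y
    have h1 := hO.add x y
    have h2 := h.Bf_eq x.val_mem y.val_mem
    rw [EA.mk_val, EA.mk_val] at h2
    rw [← h2]
    unfold Bf
    rw [h1]
    have e1 := z2_add_self (Qf {a | ∃ g, h.rep g (EA.mk h.sq r h.mem) = a} x)
    have e2 := z2_add_self (Qf {a | ∃ g, h.rep g (EA.mk h.sq r h.mem) = a} y)
    linear_combination -e1 - e2
  have hB' : ∀ x (hx : x ∈ N) y (hy : y ∈ N), Bg C r x y = f (EA.mk h.sq x hx) (EA.mk h.sq y hy) :=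
    fun x hx y hy => (hB (EA.mk h.sq x hx) (EA.mk h.sq y hy)).symm
  refine ⟨?_, ?_, ?_⟩
  · exact
    { sq := h.sq
      nor := h.nor
      r_mem := h.mem
      c_mem := hc
      c_fix := hcC
      add := fun x hx y hy z hz => by
        rw [hB' x hx (y * z) (N.mul_mem hy hz), hB' x hx y hy, hB' x hx z hz]
        exact map_add (f (EA.mk h.sq x hx)) (EA.mk h.sq y hy) (EA.mk h.sq z hz)
      comm := fun x hx y hy => by rw [hB' x hx y hy, hB' y hy x hx, hO.comm]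
      self := fun x hx => by rw [hB' x hx x hx, hO.alt]
      inv := fun g hg x hx => by
        rw [← h.Qf_eq hx, ← h.Qf_eq (h.nor g hg x hx)]
        exact hO.Q_inv ⟨g, hg⟩ (EA.mk h.sq x hx)
      Qc := by rw [← h.Qf_eq hc]; exact hO.Qc
      Bc := fun x hx => by rw [hB' c hc x hx, hO.fc]; rfl
      rad := fun x hx hx0 => by
        rcases hO.rad (EA.mk h.sq x hx) (LinearMap.ext fun y => by
          rw [hB, LinearMap.zero_apply]; exact hx0 _ y.val_mem) with e | e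
        · exact Or.inl (EA.val_eq_one.2 e)
        · exact Or.inr (congrArg EA.val e)
      refl := fun z hz hz1 hz0 => by
        rcases Qg_eq_zero.1 hz0 with e | ⟨g, hg, e⟩
        · exact absurd e hz1
        · obtain ⟨g', hg'⟩ := hO.refl (EA.mk h.sq z hz) ⟨⟨g, hg⟩, EA.ext e.symm⟩
          refine ⟨g', g'.2, fun n hn => ?_⟩
          have h1 := hg' (EA.mk h.sq n hn)
          rcases z2 (f (EA.mk h.sq z hz) (EA.mk h.sq n hn)) with e1 | e1
          · left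
            refine ⟨by rw [hB' z hz n hn, e1], ?_⟩
            rw [e1, zero_smul, add_zero] at h1
            exact congrArg EA.val h1
          · right
            refine ⟨by rw [hB' z hz n hn, e1], ?_⟩
            rw [e1, one_smul] at h1
            exact congrArg EA.val h1 }
  · rw [hB' r h.mem p hpN, h0]
  · intro n hn
    have h1 := ht0 (EA.mk h.sq n hn)
    rcases z2 (f (EA.mk h.sq r h.mem) (EA.mk h.sq n hn)) with e1 | e1
    · left
      refine ⟨by rw [hB' r h.mem n hn, e1], ?_⟩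
      rw [e1, zero_smul, add_zero] at h1
      exact congrArg EA.val h1
    · right
      refine ⟨by rw [hB' r h.mem n hn, e1], ?_⟩
      rw [e1, one_smul] at h1
      exact congrArg EA.val h1

end GSys

namespace GOrth

variable {C N : Subgroup G} {r c : G} (h : GOrth C N r c)

include h

omit h in
theorem Q_mul {x y : G} : Qg C r (x * y) = Qg C r x + Qg C r y + Bg C r x y := by
  unfold Bg
  have e1 := z2_add_self (Qg C r x)
  have e2 := z2_add_self (Qg C r y)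
  linear_combination -e1 - e2

omit h in
theorem Bone {x : G} : Bg C r x 1 = 0 := by
  unfold Bg
  rw [mul_one, Qg_one, add_zero]
  exact z2_add_self _

theorem add_left {x y z : G} (hx : x ∈ N) (hy : y ∈ N) (hz : z ∈ N) :
    Bg C r (x * y) z = Bg C r x z + Bg C r y z := by
  rw [h.comm _ (N.mul_mem hx hy) _ hz, h.add z hz x hx y hy, h.comm z hz x hx, h.comm z hz y hy]

theorem B_inv {g x y : G} (hg : g ∈ C) (hx : x ∈ N) (hy : y ∈ N) :
    Bg C r (g * x * g⁻¹) (g * y * g⁻¹) = Bg C r x y := by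
  unfold Bg
  have e : g * x * g⁻¹ * (g * y * g⁻¹) = g * (x * y) * g⁻¹ := by group
  rw [e, h.inv g hg _ (N.mul_mem hx hy), h.inv g hg x hx, h.inv g hg y hy]

theorem Qmulc {x : G} (hx : x ∈ N) : Qg C r (x * c) = Qg C r x + 1 := by
  rw [Q_mul, h.Qc, h.comm x hx c h.c_mem, h.Bc x hx, add_zero]

end GOrth

end Cfsg.Agent.Omega.TV
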