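import Cfsg.Agent.Omega.TV.Big

/-!
# THEOREM TV (2)(ii): one nontrivial transvection for every centre

helper895, OMEGA / II.d, paper text bb #13722.  The invariant alternating form `f`, and: if `r`,
`p`, `r + p` are pairwise orthogonal points, every two different points with a common neighbour
have their sum in `Om`.
-/

namespace Cfsg.Agent.Omega.TV

open Module

variable {H : Type*} [Group H] {V : Type*} [AddCommGroup V] [Module (ZMod 2) V]
  {ρ : H →* (V ≃ₗ[ZMod 2] V)} {Om : Set V}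

namespace Sys

/-- Every centre has at most one nontrivial induced transvection. -/
def Small (ρ : H →* (V ≃ₗ[ZMod 2] V)) (Om : Set V) : Prop :=
  ∀ r ∈ Om, ∀ φ ψ, Fn ρ r φ → Fn ρ r ψ → φ ≠ 0 → ψ ≠ 0 → φ = ψ

theorem small_or_big (h : Sys ρ Om) : Small ρ Om ∨ Big ρ Om := by
  by_cases hs : Small ρ Om
  · exact Or.inl hs
  right
  unfold Small at hs
  push Not at hs
  obtain ⟨r, hr, φ, ψ, h1, h2, h3, h4, h5⟩ := hs
  exact h.big_of hr h1 h2 h3 h4 h5

end Sys

/-- The alternating form of the small case. -/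
structure Frm (ρ : H →* (V ≃ₗ[ZMod 2] V)) (Om : Set V)
    (f : V →ₗ[ZMod 2] V →ₗ[ZMod 2] ZMod 2) : Prop where
  ne : ∀ r ∈ Om, f r ≠ 0
  fn : ∀ r ∈ Om, Fn ρ r (f r)
  uniq : ∀ r ∈ Om, ∀ φ, φ ≠ 0 → Fn ρ r φ → φ = f r
  comm : ∀ x y, f x y = f y x
  alt : ∀ x, f x x = 0
  inv : ∀ (g : H) x y, f (ρ g x) (ρ g y) = f x y

theorem Sys.exists_form [Finite V] (h : Sys ρ Om) (hs : Sys.Small ρ Om) :
    ∃ f : V →ₗ[ZMod 2] V →ₗ[ZMod 2] ZMod 2, Frm ρ Om f := by
  classical
  have hex : ∀ r : V, ∃ φ : Dual (ZMod 2) V, r ∈ Om → φ ≠ 0 ∧ Fn ρ r φ := by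
    intro r
    by_cases hr : r ∈ Om
    · obtain ⟨φ, h1, h2⟩ := h.exists_fn hr
      exact ⟨φ, fun _ => ⟨h1, h2⟩⟩
    · exact ⟨0, fun e => absurd e hr⟩
  choose ph hph using hex
  have hsym1 : ∀ r ∈ Om, ∀ s ∈ Om, ph r s = 1 → ph s r = 1 := by
    intro r hr s hs' e
    obtain ⟨φ, hφ, h1⟩ := h.symm hr hs' ⟨ph r, (hph r hr).2, e⟩
    have hne : φ ≠ 0 := by
      rintro rfl
      simp at h1
    rw [← hs s hs' φ (ph s) hφ (hph s hs').2 hne (hph s hs').1]
    exact h1
  have hsym : ∀ r ∈ Om, ∀ s ∈ Om, ph r s = ph s r := by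
    intro r hr s hs'
    rcases z2 (ph r s) with e | e
    · rcases z2 (ph s r) with e' | e'
      · rw [e, e']
      · rw [hsym1 s hs' r hr e', e']
    · rw [e, hsym1 r hr s hs' e]
  let Ψ : (Om →₀ ZMod 2) →ₗ[ZMod 2] V := Finsupp.linearCombination (ZMod 2) (Subtype.val : Om → V)
  let Φ : (Om →₀ ZMod 2) →ₗ[ZMod 2] Dual (ZMod 2) V :=
    Finsupp.linearCombination (ZMod 2) (fun r : Om => ph r)
  have hsurj : LinearMap.range Ψ = ⊤ := by
    rw [Finsupp.range_linearCombination, Subtype.range_val]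
    exact h.span
  have hkey : ∀ a, ∀ s ∈ Om, (Φ a) s = ph s (Ψ a) := by
    intro a s hs'
    have hlin : (LinearMap.applyₗ s) ∘ₗ Φ = (ph s) ∘ₗ Ψ := by
      refine Finsupp.lhom_ext' fun r => LinearMap.ext_ring ?_
      simp only [LinearMap.comp_apply, Finsupp.lsingle_apply, Ψ, Φ,
        Finsupp.linearCombination_single, one_smul, LinearMap.applyₗ_apply_apply]
      exact hsym r r.2 s hs'
    exact LinearMap.congr_fun hlin a
  obtain ⟨σ, hσ⟩ := Ψ.exists_rightInverse_of_surjective hsurj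
  have hσ' : ∀ x, Ψ (σ x) = x := fun x => LinearMap.congr_fun hσ x
  let f : V →ₗ[ZMod 2] V →ₗ[ZMod 2] ZMod 2 := Φ ∘ₗ σ
  have hf1 : ∀ x, ∀ s ∈ Om, f x s = ph s x := by
    intro x s hs'
    show (Φ (σ x)) s = _
    rw [hkey _ s hs', hσ']
  have hf2 : ∀ r ∈ Om, f r = ph r := by
    intro r hr
    refine LinearMap.ext_on h.span fun s hs' => ?_
    rw [hf1 r s hs', hsym s hs' r hr]
  have hcomm : ∀ x y, f x y = f y x := by
    intro x y
    have : f x = f.flip x := by
      refine LinearMap.ext_on h.span fun s hs' => ?_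
      rw [hf1 x s hs', LinearMap.flip_apply, hf2 s hs']
    calc f x y = f.flip x y := by rw [this]
      _ = f y x := rfl
  refine ⟨f, ?_, ?_, ?_, hcomm, ?_, ?_⟩
  · intro r hr
    rw [hf2 r hr]
    exact (hph r hr).1
  · intro r hr
    rw [hf2 r hr]
    exact (hph r hr).2
  · intro r hr φ hne hφ
    rw [hf2 r hr]
    exact hs r hr φ (ph r) hφ (hph r hr).2 hne (hph r hr).1
  · intro x
    have hmem : x ∈ Submodule.span (ZMod 2) Om := by rw [h.span]; trivial
    induction hmem using Submodule.span_induction with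
    | mem x hx => rw [hf2 x hx]; exact (hph x hx).2.1
    | zero => simp
    | add x y _ _ hx hy =>
      simp only [map_add, LinearMap.add_apply, hx, hy, hcomm y x, zero_add, add_zero]
      exact z2_add_self _
    | smul a x _ hx => simp [hx]
  · intro g x y
    have hlin : (f.flip (ρ g y)) ∘ₗ (ρ g : V ≃ₗ[ZMod 2] V).toLinearMap = f.flip y := by
      refine LinearMap.ext_on h.span fun r hr => ?_
      have hgr := h.inv g r hr
      show f (ρ g r) (ρ g y) = f r y
      rw [hf2 _ hgr, hf2 r hr]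
      have h1 := (hph r hr).2.conj g
      have h2 : (ph r) ∘ₗ (ρ g⁻¹ : V ≃ₗ[ZMod 2] V).toLinearMap ≠ 0 := by
        intro e
        obtain ⟨t, _, ht⟩ := h.exists_one (hph r hr).1
        have := LinearMap.congr_fun e (ρ g t)
        simp [ht] at this
      rw [← hs _ hgr _ _ h1 (hph _ hgr).2 h2 (hph _ hgr).1]
      simp
    exact LinearMap.congr_fun hlin x

namespace Frm

variable {f : V →ₗ[ZMod 2] V →ₗ[ZMod 2] ZMod 2}

theorem adj_iff (hf : Frm ρ Om f) {r s : V} (hr : r ∈ Om) : Adj ρ r s ↔ f r s = 1 := by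
  constructor
  · rintro ⟨φ, hφ, h1⟩
    have hne : φ ≠ 0 := by
      rintro rfl
      simp at h1
    rw [← hf.uniq r hr φ hne hφ]
    exact h1
  · intro e
    exact ⟨f r, hf.fn r hr, e⟩

theorem add_mem (h : Sys ρ Om) (hf : Frm ρ Om f) {r s : V} (hr : r ∈ Om) (hs : s ∈ Om)
    (e : f r s = 1) : r + s ∈ Om := by
  rw [add_comm]
  exact h.add_mem hs ((hf.adj_iff hr).2 e)

/-- The set `Om_0` with respect to the hyperbolic line `⟨r, u⟩`. -/
structure Z (Om : Set V) (f : V →ₗ[ZMod 2] V →ₗ[ZMod 2] ZMod 2) (r u x : V) : Prop where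
  ne : x ≠ 0
  pr : f r x = 0
  pu : f u x = 0
  mem : r + x ∈ Om

section

variable {r u x y p q : V}

theorem Z.mem3 (h : Sys ρ Om) (hf : Frm ρ Om f) (_hr : r ∈ Om) (hu : u ∈ Om) (e : f r u = 1)
    (hx : Z Om f r u x) : u + (r + x) ∈ Om :=
  hf.add_mem h hu hx.mem (by rw [map_add, hf.comm u r, e, hx.pu, add_zero])

theorem Z.memu (h : Sys ρ Om) (hf : Frm ρ Om f) (hr : r ∈ Om) (hu : u ∈ Om) (e : f r u = 1)
    (hx : Z Om f r u x) : u + x ∈ Om := by
  have h1 := hf.add_mem h hr (hx.mem3 h hf hr hu e)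
    (by rw [map_add, e, map_add, hf.alt, hx.pr, add_zero, add_zero])
  have e1 : r + (u + (r + x)) = u + x := by
    calc r + (u + (r + x)) = u + x + (r + r) := by abel
      _ = u + x := by rw [v_add_self, add_zero]
  rwa [e1] at h1

theorem Z.of_memu (h : Sys ρ Om) (hf : Frm ρ Om f) (hr : r ∈ Om) (hu : u ∈ Om) (e : f r u = 1)
    (hne : x ≠ 0) (h1 : f r x = 0) (h2 : f u x = 0) (hm : u + x ∈ Om) : Z Om f r u x := by
  refine ⟨hne, h1, h2, ?_⟩
  have h3 := hf.add_mem h hr hm (by rw [map_add, e, h1, add_zero])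
  have h4 := hf.add_mem h hu h3
    (by rw [map_add, map_add, hf.comm u r, e, hf.alt, h2, add_zero, add_zero])
  have e1 : u + (r + (u + x)) = r + x := by
    calc u + (r + (u + x)) = r + x + (u + u) := by abel
      _ = r + x := by rw [v_add_self, add_zero]
  rwa [e1] at h4

theorem Z.add (h : Sys ρ Om) (hf : Frm ρ Om f) (hr : r ∈ Om) (hu : u ∈ Om) (e : f r u = 1)
    (hx : Z Om f r u x) (hy : Z Om f r u y) (h0 : f x y = 0) (hne : x ≠ y) :
    Z Om f r u (x + y) := by
  refine ⟨add_ne_zero_of_ne hne, by rw [map_add, hx.pr, hy.pr, add_zero],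
    by rw [map_add, hx.pu, hy.pu, add_zero], ?_⟩
  have h1 := hf.add_mem h hx.mem (hy.memu h hf hr hu e) (by
    simp only [map_add, LinearMap.add_apply, e, hf.comm x u, hx.pu, hy.pr, h0, add_zero])
  have h2 := hf.add_mem h hu h1 (by
    simp only [map_add, hf.comm u r, e, hx.pu, hf.alt, hy.pu, add_zero])
  have e1 : u + (r + x + (u + y)) = r + (x + y) := by
    calc u + (r + x + (u + y)) = r + (x + y) + (u + u) := by abel
      _ = r + (x + y) := by rw [v_add_self, add_zero]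
  rwa [e1] at h2

theorem Z.mem_of (h : Sys ρ Om) (hf : Frm ρ Om f)
    (hx : Z Om f r u x) (hy : Z Om f r u y) (h1 : f x y = 1) : x + y ∈ Om := by
  have h2 := hf.add_mem h hx.mem hy.mem (by
    simp only [map_add, LinearMap.add_apply, hf.alt, hf.comm x r, hx.pr, hy.pr, h1, add_zero,
      zero_add])
  have e1 : r + x + (r + y) = x + y := by
    calc r + x + (r + y) = x + y + (r + r) := by abel
      _ = x + y := by rw [v_add_self, add_zero]
  rwa [e1] at h2

theorem Z.add_mem' (h : Sys ρ Om) (hf : Frm ρ Om f)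
    (hx : Z Om f r u x) (hy : y ∈ Om) (p1 : f r y = 0) (p2 : f u y = 0) (h1 : f x y = 1) :
    Z Om f r u (x + y) := by
  refine ⟨?_, by rw [map_add, hx.pr, p1, add_zero], by rw [map_add, hx.pu, p2, add_zero], ?_⟩
  · intro e0
    have h2 : f (x + y) y = 1 := by rw [map_add, LinearMap.add_apply, h1, hf.alt, add_zero]
    rw [e0, map_zero, LinearMap.zero_apply] at h2
    exact zero_ne_one h2
  · have h2 := hf.add_mem h hx.mem hy (by rw [map_add, LinearMap.add_apply, p1, h1, zero_add])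
    rwa [add_assoc] at h2

/-- (A). -/
theorem Z.memA (h : Sys ρ Om) (hf : Frm ρ Om f)
    (hx : Z Om f r u x) (hq : Z Om f r u q) (hqm : q ∈ Om) (h1 : f x q = 1) : x ∈ Om := by
  have h2 := hx.mem_of h hf hq h1
  have h3 := hf.add_mem h h2 hqm (by rw [map_add, LinearMap.add_apply, h1, hf.alt, add_zero])
  rwa [add_add_self] at h3

/-- Decomposition of a point with respect to the hyperbolic line: the part in `H^⊥` is a point,
zero or in `Om_0`. -/
theorem Z.decomp (h : Sys ρ Om) (hf : Frm ρ Om f) (hr : r ∈ Om) (hu : u ∈ Om) (e : f r u = 1)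
    {w : V} (hw : w ∈ Om) : ∃ x, f r x = 0 ∧ f u x = 0 ∧ (∀ y, f r y = 0 → f u y = 0 →
      f x y = f w y) ∧ (x = w ∨ x = 0 ∨ Z Om f r u x) := by
  have e' : f u r = 1 := by rw [hf.comm, e]
  rcases z2 (f u w) with a | a <;> rcases z2 (f r w) with b | b
  · exact ⟨w, b, a, fun _ _ _ => rfl, Or.inl rfl⟩
  · -- w = u + x
    refine ⟨u + w, by rw [map_add, e, b, z2_add_self], by rw [map_add, hf.alt, a, add_zero],
      fun y _ h2 => by rw [map_add, LinearMap.add_apply, h2, zero_add], Or.inr ?_⟩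
    by_cases h0 : u + w = 0
    · exact Or.inl h0
    · refine Or.inr (Z.of_memu h hf hr hu e h0 (by rw [map_add, e, b, z2_add_self])
        (by rw [map_add, hf.alt, a, add_zero]) ?_)
      rw [self_add_add]; exact hw
  · -- w = r + x
    refine ⟨r + w, by rw [map_add, hf.alt, b, add_zero], by rw [map_add, e', a, z2_add_self],
      fun y h1 _ => by rw [map_add, LinearMap.add_apply, h1, zero_add], Or.inr ?_⟩
    by_cases h0 : r + w = 0
    · exact Or.inl h0
    · refine Or.inr ⟨h0, by rw [map_add, hf.alt, b, add_zero], by rw [map_add, e', a, z2_add_self],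
        ?_⟩
      rw [self_add_add]; exact hw
  · -- w = r + u + x
    refine ⟨r + (u + w), by rw [map_add, map_add, hf.alt, e, b, z2_add_self, add_zero],
      by rw [map_add, map_add, e', hf.alt, a, zero_add, z2_add_self],
      fun y h1 h2 => by
        rw [map_add, LinearMap.add_apply, map_add, LinearMap.add_apply, h1, h2, zero_add, zero_add],
      Or.inr ?_⟩
    by_cases h0 : r + (u + w) = 0
    · exact Or.inl h0
    · refine Or.inr ⟨h0, by rw [map_add, map_add, hf.alt, e, b, z2_add_self, add_zero],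
        by rw [map_add, map_add, e', hf.alt, a, zero_add, z2_add_self], ?_⟩
      rw [self_add_add]
      exact hf.add_mem h hu hw a

/-- (C): no element of `Om_0` is orthogonal to `Om_0`. -/
theorem Z.exists_one (h : Sys ρ Om) (hf : Frm ρ Om f) (hr : r ∈ Om) (hu : u ∈ Om) (e : f r u = 1)
    (hx : Z Om f r u x) : ∃ y, Z Om f r u y ∧ f x y = 1 := by
  by_contra hcon
  push Not at hcon
  have h0 : ∀ y, Z Om f r u y → f x y = 0 := fun y hy => z2_ne_one (hcon y hy)
  have h1 : ∀ w ∈ Om, f x w = 0 := by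
    intro w hw
    obtain ⟨y, p1, p2, p3, p4⟩ := Z.decomp h hf hr hu e hw
    have e1 : f x w = f x y := by
      rw [hf.comm x w, hf.comm x y, p3 x hx.pr hx.pu]
    rcases p4 with rfl | rfl | hz
    · by_contra hne
      have h2 := z2_ne_zero hne
      have h3 := hx.add_mem' h hf hw p1 p2 h2
      have h4 := h0 _ h3
      rw [map_add, hf.alt, h2, zero_add] at h4
      exact one_ne_zero h4
    · rw [e1, map_zero]
    · rw [e1, h0 y hz]
  have hfx : f x = 0 := h.eq_zero_of h1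
  have hrad : x ∈ Sys.rad ρ Om := by
    intro s hs φ hφ
    by_cases hne : φ = 0
    · rw [hne]; rfl
    · rw [hf.uniq s hs φ hne hφ, hf.comm, h1 s hs]
  have k1 := hf.fn r hr
  have k2 := hf.fn _ hx.mem
  rw [map_add, hfx, add_zero] at k2
  have k3 := k1.addc k2
  rw [self_add_add] at k3
  exact hx.ne (h.no_rad_centre hr hrad k1 k3 (hf.ne r hr))

/-- (D) with `p` orthogonal to `u`. -/
theorem memD (h : Sys ρ Om) (hf : Frm ρ Om f) (hr : r ∈ Om) (hu : u ∈ Om) (e : f r u = 1)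
    (hp : p ∈ Om) (hpr : f r p = 0) (hpu : f u p = 0) (hrp : r + p ∈ Om)
    (hx : Z Om f r u x) : x ∈ Om := by
  have hpz : Z Om f r u p := ⟨h.ne_zero hp, hpr, hpu, hrp⟩
  -- (B)
  obtain ⟨y, hy, hpy⟩ : ∃ y, Z Om f r u y ∧ f p y = 1 := hpz.exists_one h hf hr hu e
  have hym : y ∈ Om := hy.memA h hf hpz hp (by rw [hf.comm]; exact hpy)
  by_cases h1 : f x p = 1
  · exact hx.memA h hf hpz hp h1
  by_cases h2 : f x y = 1
  · exact hx.memA h hf hy hym h2
  obtain ⟨t, ht, hxt⟩ := hx.exists_one h hf hr hu e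
  by_cases h3 : f t p = 1
  · exact hx.memA h hf ht (ht.memA h hf hpz hp h3) hxt
  by_cases h4 : f t y = 1
  · exact hx.memA h hf ht (ht.memA h hf hy hym h4) hxt
  have h2' := z2_ne_one h2
  have h3' := z2_ne_one h3
  have h4' := z2_ne_one h4
  have hne : t ≠ y := by
    rintro rfl
    exact h2 hxt
  have hty := ht.add h hf hr hu e hy h4' hne
  have hym' : t + y ∈ Om := hty.memA h hf hpz hp (by
    rw [map_add, LinearMap.add_apply, h3', zero_add, hf.comm]; exact hpy)
  exact hx.memA h hf hty hym' (by rw [map_add, hxt, h2', add_zero])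

end

/-- **TV (2)(ii)** for one point `r`. -/
theorem add_mem_of_near (h : Sys ρ Om) (hf : Frm ρ Om f) {r p b u : V} (hr : r ∈ Om) (hp : p ∈ Om)
    (hrp : r + p ∈ Om) (hpr : f r p = 0) (hb : b ∈ Om) (hne : r ≠ b) (hu : u ∈ Om)
    (hru : f r u = 1) (hub : f u b = 1) : r + b ∈ Om := by
  by_cases hrb : f r b = 1
  · exact hf.add_mem h hr hb hrb
  have hrb' := z2_ne_one hrb
  have hz : Z Om f r u (r + b) := by
    refine ⟨add_ne_zero_of_ne hne, by rw [map_add, hf.alt, hrb', add_zero],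
      by rw [map_add, hf.comm u r, hru, hub, z2_add_self], by rw [self_add_add]; exact hb⟩
  rcases z2 (f u p) with hup | hup
  · exact memD h hf hr hu hru hp hpr hup hrp hz
  · refine memD h hf hr hu hru (p := r + p) hrp ?_ ?_ ?_ hz
    · rw [map_add, hf.alt, hpr, add_zero]
    · rw [map_add, hf.comm u r, hru, hup, z2_add_self]
    · rw [self_add_add]; exact hp

/-- **TV (2)(ii)**. -/
theorem add_mem_of_near' [Finite V] (h : Sys ρ Om) (hf : Frm ρ Om f) {r p : V} (hr : r ∈ Om)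
    (hp : p ∈ Om) (hrp : r + p ∈ Om) (hpr : f r p = 0) :
    ∀ b ∈ Om, ∀ c ∈ Om, Sys.Near ρ Om b c → b ≠ c → b + c ∈ Om := by
  intro b hb c hc hn hne
  obtain ⟨g, hg⟩ := h.trans r hr b hb
  obtain ⟨u, hu, h1, h2⟩ := hn
  refine add_mem_of_near h hf (p := ρ g p) hb (h.inv g p hp) ?_ ?_ hc hne hu
    ((hf.adj_iff hb).1 h1) ((hf.adj_iff hu).1 h2)
  · rw [← hg, ← map_add]
    exact h.inv g _ hrp
  · rw [← hg, hf.inv, hpr]

end Frm

/-- **THEOREM TV (2)**: `r`, `p`, `r + p` are points and some nontrivial induced transvection with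
centre `r` fixes `p`; then sums of different points with a common neighbour are points. -/
theorem Sys.add_mem_of_near [Finite V] (h : Sys ρ Om) {r p : V} (hr : r ∈ Om) (hp : p ∈ Om)
    (hrp : r + p ∈ Om) {φ : Dual (ZMod 2) V} (hφ : Fn ρ r φ) (hne : φ ≠ 0) (h0 : φ p = 0) :
    ∀ b ∈ Om, ∀ c ∈ Om, Sys.Near ρ Om b c → b ≠ c → b + c ∈ Om := by
  rcases h.small_or_big with hs | hb
  · obtain ⟨f, hf⟩ := h.exists_form hs
    refine hf.add_mem_of_near' h hr hp hrp ?_
    rw [← hf.uniq r hr φ hne hφ]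
    exact h0
  · intro b hb' c hc hn hbc
    exact add_comm c b ▸ h.add_mem hc (h.adj_of_near hb hb' hc hbc hn)

/-- **Corollary (TV2)**: under the hypotheses of TV (2) there is no nonzero fixed vector. -/
theorem Sys.eq_zero_of_fixed [Finite V] (h : Sys ρ Om) {r p : V} (hr : r ∈ Om) (hp : p ∈ Om)
    (hrp : r + p ∈ Om) {φ : Dual (ZMod 2) V} (hφ : Fn ρ r φ) (hne : φ ≠ 0) (h0 : φ p = 0)
    {v : V} (hv : ∀ g : H, ρ g v = v) : v = 0 := by
  have hb := h.rad_eq_bot_of (h.add_mem_of_near hr hp hrp hφ hne h0)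
  have hmem : v ∈ Sys.rad ρ Om := by
    intro s hs ψ hψ
    obtain ⟨_, g, hg⟩ := hψ
    have h1 := hg v
    rw [hv g] at h1
    have h2 : ψ v • s = 0 := by simpa using h1
    rcases smul_eq_zero.1 h2 with h3 | h3
    · exact h3
    · exact absurd h3 (h.ne_zero hs)
  rw [hb] at hmem
  simpa using hmem

end Cfsg.Agent.Omega.TV
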