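import Mathlib

/-!
# THEOREM TV: groups generated by transvections over `𝔽₂`, elementary form

helper895, OMEGA / II.d, paper text bb #13722.

`H` acts by `ρ` on `V` over `𝔽₂`; `Fn ρ r φ` says that the transvection `x ↦ x + φ x • r` is
induced by `H`.  `Om` is an orbit of `H` spanning `V`, whose elements are centres of transvections.
-/

namespace Cfsg.Agent.Omega.TV

open Module

variable {H : Type*} [Group H] {V : Type*} [AddCommGroup V] [Module (ZMod 2) V]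

theorem z2 (a : ZMod 2) : a = 0 ∨ a = 1 := by revert a; decide

theorem z2_ne_zero {a : ZMod 2} (h : a ≠ 0) : a = 1 := (z2 a).resolve_left h

theorem z2_ne_one {a : ZMod 2} (h : a ≠ 1) : a = 0 := (z2 a).resolve_right h

theorem z2_add_self (a : ZMod 2) : a + a = 0 := by revert a; decide

theorem v_add_self (v : V) : v + v = 0 := ZModModule.add_self v

theorem v_eq_of_add {v w : V} (h : v + w = 0) : v = w := by
  have := congrArg (· + w) h
  simpa [add_assoc, v_add_self] using this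

theorem add_ne_zero_of_ne {v w : V} (h : v ≠ w) : v + w ≠ 0 := fun h' => h (v_eq_of_add h')

theorem add_add_self (v w : V) : v + w + w = v := by rw [add_assoc, v_add_self, add_zero]

theorem self_add_add (v w : V) : v + (v + w) = w := by rw [← add_assoc, v_add_self, zero_add]

variable (ρ : H →* (V ≃ₗ[ZMod 2] V))

theorem rmul (g h : H) (v : V) : ρ (g * h) v = ρ g (ρ h v) := by
  rw [map_mul]; rfl

theorem rone (v : V) : ρ 1 v = v := by
  rw [map_one]; rfl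

theorem rinv (g : H) (v : V) : ρ g⁻¹ (ρ g v) = v := by
  rw [← rmul, inv_mul_cancel, rone]

theorem rinv' (g : H) (v : V) : ρ g (ρ g⁻¹ v) = v := by
  rw [← rmul, mul_inv_cancel, rone]

/-- The transvection `x ↦ x + φ x • r` is induced by `H`. -/
def Fn (r : V) (φ : Dual (ZMod 2) V) : Prop :=
  φ r = 0 ∧ ∃ g : H, ∀ x, ρ g x = x + φ x • r

/-- Some induced transvection with centre `r` moves `s`. -/
def Adj (r s : V) : Prop := ∃ φ, Fn ρ r φ ∧ φ s = 1

variable {ρ}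

namespace Fn

variable {r s u y : V} {φ ψ κ : Dual (ZMod 2) V}

theorem act_self (h : Fn ρ r φ) : φ r = 0 := h.1

theorem zero (r : V) : Fn ρ r 0 := ⟨rfl, 1, fun x => by simp⟩

theorem add (h : Fn ρ r φ) (h' : Fn ρ r ψ) : Fn ρ r (φ + ψ) := by
  obtain ⟨h0, g, hg⟩ := h
  obtain ⟨h0', g', hg'⟩ := h'
  refine ⟨by simp [h0, h0'], g * g', fun x => ?_⟩
  rw [rmul, hg', hg]
  simp only [map_add, map_smul, h0, smul_eq_mul, mul_zero, add_zero, LinearMap.add_apply, add_smul]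
  abel

theorem addc (h : Fn ρ r φ) (h' : Fn ρ s φ) : Fn ρ (r + s) φ := by
  obtain ⟨h0, g, hg⟩ := h
  obtain ⟨h0', g', hg'⟩ := h'
  refine ⟨by simp [h0, h0'], g * g', fun x => ?_⟩
  rw [rmul, hg', hg]
  simp only [map_add, map_smul, h0', smul_eq_mul, mul_zero, add_zero, smul_add]
  abel

theorem conj (h : Fn ρ r φ) (g : H) : Fn ρ (ρ g r) (φ ∘ₗ (ρ g⁻¹ : V ≃ₗ[ZMod 2] V).toLinearMap) := by
  obtain ⟨h0, t, ht⟩ := h
  refine ⟨by simp [rinv, h0], g * t * g⁻¹, fun x => ?_⟩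
  rw [rmul, rmul, ht, map_add, rinv', map_smul]
  simp

/-- Conjugation of one transvection by another. -/
theorem cc (hu : Fn ρ u κ) (hy : Fn ρ y φ) : Fn ρ (u + φ u • y) (κ + κ y • φ) := by
  obtain ⟨h0, g, hg⟩ := hu
  obtain ⟨h0', g', hg'⟩ := hy
  refine ⟨?_, g' * g * g', fun x => ?_⟩
  · simp only [LinearMap.add_apply, LinearMap.smul_apply, map_add, map_smul, h0, h0', smul_eq_mul,
      mul_zero, add_zero, zero_add, smul_zero]
    rw [mul_comm (κ y)]
    exact z2_add_self _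
  · rw [rmul, rmul, hg' x, hg, hg']
    simp only [map_add, map_smul, h0', smul_eq_mul, mul_zero, add_zero, LinearMap.add_apply,
      LinearMap.smul_apply, smul_add, smul_smul]
    have e : φ x • y + φ x • y = 0 := v_add_self _
    have e1 : (φ x + (κ x + φ x * κ y) * φ u) • y
        = φ x • y + ((κ x + φ x * κ y) * φ u) • y := add_smul _ _ _
    rw [e1]
    have e2 : κ y * φ x = φ x * κ y := mul_comm _ _
    rw [e2]
    calc x + φ x • y + (κ x + φ x * κ y) • u + (φ x • y + ((κ x + φ x * κ y) * φ u) • y)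
        = x + ((κ x + φ x * κ y) • u + ((κ x + φ x * κ y) * φ u) • y) + (φ x • y + φ x • y) := by
          abel
      _ = x + ((κ x + φ x * κ y) • u + ((κ x + φ x * κ y) * φ u) • y) := by rw [e, add_zero]

end Fn

theorem Adj.conj {r s : V} (h : Adj ρ r s) (g : H) : Adj ρ (ρ g r) (ρ g s) := by
  obtain ⟨φ, hφ, h1⟩ := h
  exact ⟨_, hφ.conj g, by simpa [rinv] using h1⟩

/-- The setting of THEOREM TV. -/
structure Sys (ρ : H →* (V ≃ₗ[ZMod 2] V)) (Om : Set V) : Prop where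
  zero : (0 : V) ∉ Om
  inv : ∀ (g : H), ∀ r ∈ Om, ρ g r ∈ Om
  trans : ∀ r ∈ Om, ∀ s ∈ Om, ∃ g : H, ρ g r = s
  span : Submodule.span (ZMod 2) Om = ⊤
  ex : ∃ r ∈ Om, ∃ φ, φ ≠ 0 ∧ Fn ρ r φ
  chain : ∀ U : Submodule (ZMod 2) V, (∀ (g : H), ∀ u ∈ U, ρ g u ∈ U) →
    ∀ g : H, (∀ u ∈ U, ρ g u = u) → (∀ v, ρ g v + v ∈ U) → ∀ v, ρ g v = v

namespace Sys

variable {Om : Set V} (h : Sys ρ Om)

include h

theorem ne_zero {r : V} (hr : r ∈ Om) : r ≠ 0 := fun e => h.zero (e ▸ hr)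

theorem eq_zero_of {φ : Dual (ZMod 2) V} (hφ : ∀ s ∈ Om, φ s = 0) : φ = 0 := by
  refine LinearMap.ext_on h.span fun s hs => ?_
  simpa using hφ s hs

theorem exists_one {φ : Dual (ZMod 2) V} (hφ : φ ≠ 0) : ∃ s ∈ Om, φ s = 1 := by
  by_contra hcon
  push Not at hcon
  exact hφ (h.eq_zero_of fun s hs => z2_ne_one (hcon s hs))

theorem exists_fn {r : V} (hr : r ∈ Om) : ∃ φ, φ ≠ 0 ∧ Fn ρ r φ := by
  obtain ⟨s, hs, φ, hne, hφ⟩ := h.ex
  obtain ⟨g, hg⟩ := h.trans s hs r hr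
  refine ⟨_, ?_, hg ▸ hφ.conj g⟩
  obtain ⟨t, _, ht⟩ := h.exists_one hne
  intro h0
  have := LinearMap.congr_fun h0 (ρ g t)
  simp [rinv, ht] at this

theorem exists_adj {r : V} (hr : r ∈ Om) : ∃ s ∈ Om, Adj ρ r s := by
  obtain ⟨φ, hne, hφ⟩ := h.exists_fn hr
  obtain ⟨s, hs, h1⟩ := h.exists_one hne
  exact ⟨s, hs, φ, hφ, h1⟩

theorem add_mem {r s : V} (hs : s ∈ Om) (ha : Adj ρ r s) : s + r ∈ Om := by
  obtain ⟨φ, ⟨_, g, hg⟩, h1⟩ := ha
  have := h.inv g s hs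
  rwa [hg, h1, one_smul] at this

theorem symm [Finite V] {r s : V} (hr : r ∈ Om) (hs : s ∈ Om) (ha : Adj ρ r s) : Adj ρ s r := by
  have : Finite (Dual (ZMod 2) V) := Finite.of_injective (fun f : Dual (ZMod 2) V => (f : V → ZMod 2))
    DFunLike.coe_injective
  obtain ⟨φ, hφ, h1⟩ := ha
  by_contra hcon
  have h0 : ∀ ψ, Fn ρ s ψ → ψ r = 0 := fun ψ hψ => z2_ne_one fun e => hcon ⟨ψ, hψ, e⟩
  have hsub : {ψ | Fn ρ s ψ} ⊆ {ψ | Fn ρ r ψ} := by
    intro ψ hψ
    have e1 := Fn.cc (show Fn ρ s ψ from hψ) hφ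
    rw [h1, one_smul, h0 ψ hψ, zero_smul, add_zero] at e1
    have e2 := e1.addc (show Fn ρ s ψ from hψ)
    rwa [add_comm s r, add_add_self] at e2
  have hcard : {ψ | Fn ρ r ψ}.ncard ≤ {ψ | Fn ρ s ψ}.ncard := by
    obtain ⟨g, hg⟩ := h.trans r hr s hs
    refine Set.ncard_le_ncard_of_injOn
      (fun ψ => ψ ∘ₗ (ρ g⁻¹ : V ≃ₗ[ZMod 2] V).toLinearMap) ?_ ?_ (Set.toFinite _)
    · intro ψ hψ
      exact hg ▸ Fn.conj (show Fn ρ r ψ from hψ) g
    · intro ψ _ ψ' _ he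
      ext x
      have := LinearMap.congr_fun he (ρ g x)
      simpa [rinv] using this
  have heq := Set.eq_of_subset_of_ncard_le hsub hcard (Set.toFinite _)
  have : φ ∈ {ψ | Fn ρ s ψ} := by rw [heq]; exact hφ
  have h2 : φ s = 0 := (show Fn ρ s φ from this).1
  rw [h1] at h2
  exact one_ne_zero h2

/-- `T_r* ∩ s^⊥ ≤ T_s*` for adjacent `r`, `s`. -/
theorem fn_of_adj [Finite V] {r s : V} (hr : r ∈ Om) (hs : s ∈ Om) (ha : Adj ρ r s)
    {ψ : Dual (ZMod 2) V} (hψ : Fn ρ r ψ) (h0 : ψ s = 0) : Fn ρ s ψ := by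
  obtain ⟨φ, hφ, h1⟩ := h.symm hr hs ha
  have e1 := Fn.cc hψ hφ
  rw [h1, one_smul, h0, zero_smul, add_zero] at e1
  have e2 := e1.addc hψ
  rwa [add_comm r s, add_add_self] at e2

/-- Having a common neighbour. -/
def Near (ρ : H →* (V ≃ₗ[ZMod 2] V)) (Om : Set V) (r s : V) : Prop :=
  ∃ v ∈ Om, Adj ρ r v ∧ Adj ρ v s

theorem near_of_adj [Finite V] {r s : V} (hr : r ∈ Om) (hs : s ∈ Om) (ha : Adj ρ r s) :
    Near ρ Om r s := by
  obtain ⟨φ, hφ, h1⟩ := ha
  obtain ⟨ψ, hψ, h2⟩ := h.symm hr hs ⟨φ, hφ, h1⟩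
  have hm : s + r ∈ Om := h.add_mem hs ⟨φ, hφ, h1⟩
  refine ⟨s + r, hm, ⟨φ, hφ, by rw [map_add, h1, hφ.1, add_zero]⟩, ?_⟩
  exact h.symm hs hm ⟨ψ, hψ, by rw [map_add, hψ.1, h2, zero_add]⟩

theorem near_refl [Finite V] {r : V} (hr : r ∈ Om) : Near ρ Om r r := by
  obtain ⟨s, hs, ha⟩ := h.exists_adj hr
  exact ⟨s, hs, ha, h.symm hr hs ha⟩

theorem near_symm [Finite V] {r s : V} (hr : r ∈ Om) (hs : s ∈ Om) (hn : Near ρ Om r s) :
    Near ρ Om s r := by
  obtain ⟨v, hv, h1, h2⟩ := hn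
  exact ⟨v, hv, h.symm hv hs h2, h.symm hr hv h1⟩

theorem near_three [Finite V] {a u v b : V} (ha : a ∈ Om) (hu : u ∈ Om) (hv : v ∈ Om) (hb : b ∈ Om)
    (h1 : Adj ρ a u) (h2 : Adj ρ u v) (h3 : Adj ρ v b) : Near ρ Om a b := by
  by_cases h4 : Adj ρ a v
  · exact ⟨v, hv, h4, h3⟩
  by_cases h5 : Adj ρ u b
  · exact ⟨u, hu, h1, h5⟩
  have hm : v + u ∈ Om := h.add_mem hv h2
  obtain ⟨φ, hφ, e1⟩ := h1
  have e2 : φ v = 0 := z2_ne_one fun e => h4 ⟨φ, hφ, e⟩
  obtain ⟨ψ, hψ, e3⟩ := h.symm hv hb h3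
  have e4 : ψ u = 0 := z2_ne_one fun e => h5 (h.symm hb hu ⟨ψ, hψ, e⟩)
  refine ⟨v + u, hm, ⟨φ, hφ, by rw [map_add, e2, e1, zero_add]⟩, h.symm hb hm
    ⟨ψ, hψ, by rw [map_add, e3, e4, add_zero]⟩⟩

theorem near_trans [Finite V] {a b c : V} (ha : a ∈ Om) (hb : b ∈ Om) (hc : c ∈ Om)
    (h1 : Near ρ Om a b) (h2 : Near ρ Om b c) : Near ρ Om a c := by
  obtain ⟨v, hv, e1, e2⟩ := h1
  obtain ⟨w, hw, e3, e4⟩ := h2
  obtain ⟨x, hx, e5, e6⟩ := h.near_three ha hv hb hw e1 e2 e3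
  exact h.near_three ha hx hw hc e5 e6 e4

/-- (al): the functionals of a common neighbour agree on two nonadjacent points. -/
theorem agree [Finite V] {a b v : V} (ha : a ∈ Om) (hb : b ∈ Om) (hv : v ∈ Om)
    (hn : ¬ Adj ρ a b) (h1 : Adj ρ v a) (h2 : Adj ρ v b) {ψ : Dual (ZMod 2) V} (hψ : Fn ρ v ψ) :
    ψ a = ψ b := by
  rcases z2 (ψ a) with e1 | e1 <;> rcases z2 (ψ b) with e2 | e2
  · rw [e1, e2]
  · exact absurd ⟨ψ, h.fn_of_adj hv ha h1 hψ e1, e2⟩ hn
  · exact absurd (h.symm hb ha ⟨ψ, h.fn_of_adj hv hb h2 hψ e2, e1⟩) hn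
  · rw [e1, e2]

/-- The vectors killed by all induced functionals. -/
def rad (ρ : H →* (V ≃ₗ[ZMod 2] V)) (Om : Set V) : Submodule (ZMod 2) V where
  carrier := {x | ∀ r ∈ Om, ∀ φ, Fn ρ r φ → φ x = 0}
  zero_mem' := fun r _ φ _ => map_zero φ
  add_mem' := fun ha hb r hr φ hφ => by rw [map_add, ha r hr φ hφ, hb r hr φ hφ, add_zero]
  smul_mem' := fun c x hx r hr φ hφ => by rw [map_smul, hx r hr φ hφ, smul_zero]

theorem rad_inv (g : H) {x : V} (hx : x ∈ rad ρ Om) : ρ g x ∈ rad ρ Om := by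
  intro r hr φ hφ
  have h1 := hx (ρ g⁻¹ r) (h.inv _ r hr) _ (hφ.conj g⁻¹)
  simpa using h1

/-- A vector `c` of the radical is not the centre of an induced transvection whose functional is a
functional of a point. -/
theorem no_rad_centre {c r : V} (hr : r ∈ Om) (hc : c ∈ rad ρ Om) {κ : Dual (ZMod 2) V}
    (h1 : Fn ρ r κ) (h2 : Fn ρ c κ) (hκ : κ ≠ 0) : c = 0 := by
  obtain ⟨_, g, hg⟩ := h2
  have h3 := h.chain (rad ρ Om) (fun g u hu => h.rad_inv g hu) g
    (fun u hu => by rw [hg, hu r hr κ h1, zero_smul, add_zero])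
    (fun v => by
      rw [hg, add_comm v, add_add_self]
      exact (rad ρ Om).smul_mem _ hc)
  obtain ⟨s, _, hs⟩ := h.exists_one hκ
  have h4 := h3 s
  rw [hg, hs, one_smul] at h4
  simpa using h4

omit h in
/-- If sums of different points having a common neighbour are points, the radical is trivial. -/
theorem rad_eq_bot_of [Finite V] (h : Sys ρ Om)
    (hadd : ∀ b ∈ Om, ∀ c ∈ Om, Near ρ Om b c → b ≠ c → b + c ∈ Om) : rad ρ Om = ⊥ := by
  classical
  rw [eq_bot_iff]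
  intro v hv
  rw [Submodule.mem_bot]
  have hex0 : ∀ v : V, ∃ l : List V, (∀ x ∈ l, x ∈ Om) ∧ l.sum = v := by
    intro v
    have hmem : v ∈ Submodule.span (ZMod 2) Om := by rw [h.span]; trivial
    induction hmem using Submodule.span_induction with
    | mem x hx => exact ⟨[x], by simpa using hx, by simp⟩
    | zero => exact ⟨[], by simp, by simp⟩
    | add x y _ _ hx hy =>
      obtain ⟨l, hl, rfl⟩ := hx
      obtain ⟨l', hl', rfl⟩ := hy
      refine ⟨l ++ l', fun x hx => ?_, by simp⟩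
      rcases List.mem_append.1 hx with h1 | h1
      exacts [hl x h1, hl' x h1]
    | smul a x _ hx =>
      rcases z2 a with rfl | rfl
      · exact ⟨[], by simp, by simp⟩
      · obtain ⟨l, hl, rfl⟩ := hx
        exact ⟨l, hl, by simp⟩
  have hex : ∃ n : ℕ, ∃ l : List V, (∀ x ∈ l, x ∈ Om) ∧ l.sum = v ∧ l.length = n := by
    obtain ⟨l, h1, h2⟩ := hex0 v
    exact ⟨l.length, l, h1, h2, rfl⟩
  obtain ⟨l, hl, hsum, hlen⟩ := Nat.find_spec hex
  have hmin : ∀ l' : List V, (∀ x ∈ l', x ∈ Om) → l'.sum = v → l.length ≤ l'.length := by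
    intro l' h1 h2
    rw [hlen]
    exact Nat.find_min' hex ⟨l', h1, h2, rfl⟩
  cases l with
  | nil => rw [← hsum]; rfl
  | cons r l' =>
    exfalso
    have hr : r ∈ Om := hl r (by simp)
    have hl' : ∀ x ∈ l', x ∈ Om := fun x hx => hl x (List.mem_cons_of_mem _ hx)
    have hfar : ∀ y ∈ l', ¬ Near ρ Om r y := by
      intro y hy hn
      have hp := List.perm_cons_erase hy
      have hs' : l'.sum = y + (l'.erase y).sum := by rw [hp.sum_eq, List.sum_cons]
      have hlen' : l'.length = (l'.erase y).length + 1 := by rw [hp.length_eq, List.length_cons]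
      have hsub : ∀ x ∈ l'.erase y, x ∈ Om := fun x hx => hl' x (List.mem_of_mem_erase hx)
      by_cases hry : r = y
      · have h1 := hmin (l'.erase y) hsub (by
          rw [← hsum, List.sum_cons, hs', hry, self_add_add])
        rw [List.length_cons] at h1
        omega
      · have h1 := hmin ((r + y) :: l'.erase y) (by
          intro x hx
          rcases List.mem_cons.1 hx with rfl | hx
          · exact hadd r hr y (hl' y hy) hn hry
          · exact hsub x hx) (by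
          rw [← hsum, List.sum_cons, List.sum_cons, hs', add_assoc])
        rw [List.length_cons, List.length_cons] at h1
        omega
    obtain ⟨u, hu, hru⟩ := h.exists_adj hr
    obtain ⟨φ, hφ, h1⟩ := h.symm hr hu hru
    have h2 : ∀ y ∈ l', φ y = 0 := fun y hy =>
      z2_ne_one fun e => hfar y hy ⟨u, hu, hru, φ, hφ, e⟩
    have h3 : φ l'.sum = 0 := by
      clear hmin hlen hfar hl' hsum hl
      induction l' with
      | nil => simp
      | cons a t ih =>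
        rw [List.sum_cons, map_add, h2 a (by simp), ih fun y hy => h2 y (List.mem_cons_of_mem _ hy),
          add_zero]
    have h4 := hv u hu φ hφ
    rw [← hsum, List.sum_cons, map_add, h1, h3, add_zero] at h4
    exact one_ne_zero h4

end Sys

end Cfsg.Agent.Omega.TV
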