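import Cfsg.Agent.Omega.TV.Sym

/-!
# (B1): the lift of THEOREM TV through a fixed vector; the quadratic form

helper304, OMEGA / II.d (bb #12430 (B1), #13722 USE).  `π : N → V` is the quotient by a fixed vector `c`,
`OmN` an orbit of `H` in `N` spanning `N` and mapped bijectively onto the set of points `Om` of `V`; all
points are in one class.  If `r`, `p`, `r + p` are in `OmN`, and some nontrivial induced transvection of `V`
with centre `π r` kills `π p`, then every centre has exactly one nontrivial transvection, with invariant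
nondegenerate alternating form `f`, and the function `Q` (`0` on `OmN ∪ {0}`, `1` elsewhere) is a quadratic
form with polar form `f`, `Q c = 1`.  The transvection with centre `r` acts on `N` as the reflection
`n ↦ n + f (π r) (π n) • (r + c)`.
-/

set_option autoImplicit false

namespace Cfsg.Agent.Omega.TV

open Module

variable {H : Type*} [Group H] {V : Type*} [AddCommGroup V] [Module (ZMod 2) V]
  {N : Type*} [AddCommGroup N] [Module (ZMod 2) N]
  {ρN : H →* (N ≃ₗ[ZMod 2] N)} {ρ : H →* (V ≃ₗ[ZMod 2] V)} {π : N →ₗ[ZMod 2] V}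
  {OmN : Set N} {c : N}

/-- The setting of (B1). -/
structure Lft (ρN : H →* (N ≃ₗ[ZMod 2] N)) (ρ : H →* (V ≃ₗ[ZMod 2] V)) (π : N →ₗ[ZMod 2] V)
    (OmN : Set N) (c : N) : Prop where
  equi : ∀ (g : H) (n : N), π (ρN g n) = ρ g (π n)
  ker : ∀ n, π n = 0 → n = 0 ∨ n = c
  kc : π c = 0
  inv : ∀ (g : H), ∀ z ∈ OmN, ρN g z ∈ OmN
  ns : ∀ z ∈ OmN, z + c ∉ OmN
  span : Submodule.span (ZMod 2) OmN = ⊤
  sys : Sys ρ (π '' OmN)
  clo : Sys.Clo ρ (π '' OmN)
  near : ∀ v ∈ π '' OmN, ∀ w ∈ π '' OmN, Sys.Near ρ (π '' OmN) v w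

/-- The function `0` on `OmN ∪ {0}` and `1` elsewhere. -/
noncomputable def Qf (OmN : Set N) (n : N) : ZMod 2 :=
  open Classical in if n = 0 ∨ n ∈ OmN then 0 else 1

/-- The polar function of `Qf`. -/
noncomputable def Bf (OmN : Set N) (n m : N) : ZMod 2 := Qf OmN (n + m) + Qf OmN n + Qf OmN m

theorem Qf_eq_zero {n : N} : Qf OmN n = 0 ↔ n = 0 ∨ n ∈ OmN := by
  unfold Qf
  split_ifs with h <;> simp [h]

theorem Qf_zero : Qf OmN 0 = 0 := Qf_eq_zero.2 (Or.inl rfl)

theorem Qf_of_mem {n : N} (h : n ∈ OmN) : Qf OmN n = 0 := Qf_eq_zero.2 (Or.inr h)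

theorem Bf_comm (n m : N) : Bf OmN n m = Bf OmN m n := by
  unfold Bf
  rw [add_comm n m]
  ring

theorem Bf_cocycle (n m k : N) :
    Bf OmN n m + Bf OmN (n + m) k = Bf OmN m k + Bf OmN n (m + k) := by
  unfold Bf
  rw [add_assoc n m k]
  have e1 := z2_add_self (Qf OmN (n + m))
  have e2 := z2_add_self (Qf OmN (m + k))
  linear_combination e1 - e2

namespace Lft

variable (L : Lft ρN ρ π OmN c)

include L

theorem exists_mem : ∃ z, z ∈ OmN := by
  obtain ⟨_, ⟨z, hz, _⟩, _⟩ := L.sys.ex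
  exact ⟨z, hz⟩

theorem c_ne : c ≠ 0 := by
  intro e
  obtain ⟨z, hz⟩ := L.exists_mem
  apply L.ns z hz
  rwa [e, add_zero]

theorem π_ne {z : N} (hz : z ∈ OmN) : π z ≠ 0 := L.sys.ne_zero ⟨z, hz, rfl⟩

theorem ne_zero {z : N} (hz : z ∈ OmN) : z ≠ 0 := by
  rintro rfl
  exact L.π_ne hz (map_zero π)

theorem c_notMem : c ∉ OmN := fun h => L.π_ne h L.kc

theorem eq_of_π {n m : N} (h : π n = π m) : n = m ∨ n = m + c := by
  have h1 : π (n + m) = 0 := by rw [map_add, h, v_add_self]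
  rcases L.ker _ h1 with h2 | h2
  · exact Or.inl (v_eq_of_add h2)
  · right
    rw [← h2, add_comm n m, self_add_add]

theorem inj {z z' : N} (hz : z ∈ OmN) (hz' : z' ∈ OmN) (h : π z = π z') : z = z' := by
  rcases L.eq_of_π h with h1 | h1
  · exact h1
  · exact absurd (h1 ▸ hz) (L.ns z' hz')

theorem Q_c : Qf OmN c = 1 := by
  refine z2_ne_zero fun h => ?_
  rcases Qf_eq_zero.1 h with h1 | h1
  · exact L.c_ne h1
  · exact L.c_notMem h1

theorem Q_inv (g : H) (n : N) : Qf OmN (ρN g n) = Qf OmN n := by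
  have h1 : ∀ (g : H) (n : N), Qf OmN n = 0 → Qf OmN (ρN g n) = 0 := by
    intro g n h
    rcases Qf_eq_zero.1 h with h1 | h1
    · rw [h1, map_zero]; exact Qf_zero
    · exact Qf_of_mem (L.inv g n h1)
  rcases z2 (Qf OmN n) with h | h
  · rw [h]; exact h1 g n h
  · rw [h]
    refine z2_ne_zero fun h2 => ?_
    have h3 := h1 g⁻¹ _ h2
    rw [rinv, h] at h3
    exact one_ne_zero h3

theorem B_inv (g : H) (n m : N) : Bf OmN (ρN g n) (ρN g m) = Bf OmN n m := by
  unfold Bf
  rw [← map_add, L.Q_inv, L.Q_inv, L.Q_inv]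

variable [Finite V]

theorem all {v : V} (hv : v ≠ 0) : v ∈ π '' OmN := by
  obtain ⟨z, hz⟩ := L.exists_mem
  exact L.sys.all_mem L.clo (r := π z) ⟨z, hz, rfl⟩ (fun w hw => L.near _ ⟨z, hz, rfl⟩ w hw) hv

theorem Q_add_c (n : N) : Qf OmN (n + c) = Qf OmN n + 1 := by
  by_cases h0 : π n = 0
  · rcases L.ker n h0 with h1 | h1
    · rw [h1, zero_add, L.Q_c, Qf_zero, zero_add]
    · rw [h1, v_add_self, Qf_zero, L.Q_c]
      exact (z2_add_self 1).symm
  · obtain ⟨z, hz, hzn⟩ := L.all h0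
    rcases L.eq_of_π hzn.symm with h1 | h1
    · rw [h1, Qf_of_mem hz, zero_add]
      refine z2_ne_zero fun h2 => ?_
      rcases Qf_eq_zero.1 h2 with h3 | h3
      · apply L.π_ne hz
        have h4 := congrArg π h3
        rwa [map_add, L.kc, add_zero, map_zero] at h4
      · exact L.ns z hz h3
    · rw [h1, add_add_self, Qf_of_mem hz]
      have h2 : Qf OmN (z + c) = 1 := by
        refine z2_ne_zero fun h2 => ?_
        rcases Qf_eq_zero.1 h2 with h3 | h3
        · apply L.π_ne hz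
          have h4 := congrArg π h3
          rwa [map_add, L.kc, add_zero, map_zero] at h4
        · exact L.ns z hz h3
      rw [h2]
      exact (z2_add_self 1).symm

theorem Q_add_smul (n : N) (a : ZMod 2) : Qf OmN (n + a • c) = Qf OmN n + a := by
  rcases z2 a with rfl | rfl
  · rw [zero_smul, add_zero, add_zero]
  · rw [one_smul, L.Q_add_c]

theorem B_add_c (n m : N) : Bf OmN (n + c) m = Bf OmN n m := by
  unfold Bf
  have e : n + c + m = n + m + c := by abel
  rw [e, L.Q_add_c, L.Q_add_c]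
  linear_combination z2_add_self 1

/-- `Bf` depends only on the images in `V`. -/
theorem B_congr {n n' m m' : N} (h : π n = π n') (h' : π m = π m') : Bf OmN n m = Bf OmN n' m' := by
  have e1 : Bf OmN n m = Bf OmN n' m := by
    rcases L.eq_of_π h with e | e
    · rw [e]
    · rw [e, L.B_add_c]
  have e2 : Bf OmN n' m = Bf OmN n' m' := by
    rcases L.eq_of_π h' with e | e
    · rw [e]
    · rw [e, Bf_comm, L.B_add_c, Bf_comm]
  rw [e1, e2]

/-- The elements inducing transvections of `V`. -/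
theorem exists_a {r : N} (hr : r ∈ OmN) {φ : Dual (ZMod 2) V} {g : H}
    (hg : ∀ x, ρ g x = x + φ x • π r) :
    ∃ a : ZMod 2, ∀ n, ρN g n = n + φ (π n) • (r + a • c) := by
  have h0 : ∀ n, φ (π n) = 0 → ρN g n = n := by
    intro n hn
    have h1 : π (ρN g n) = π n := by rw [L.equi, hg, hn, zero_smul, add_zero]
    rcases L.eq_of_π h1 with h2 | h2
    · exact h2
    · exfalso
      have h3 := L.Q_inv g n
      rw [h2, L.Q_add_c] at h3
      have h4 : (1 : ZMod 2) = 0 := by linear_combination h3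
      exact one_ne_zero h4
  by_cases hφ : ∃ n, φ (π n) = 1
  · obtain ⟨n₁, hn₁⟩ := hφ
    have h1 : π (ρN g n₁ ) = π (n₁ + r) := by rw [L.equi, hg, hn₁, one_smul, map_add]
    obtain ⟨a, ha⟩ : ∃ a : ZMod 2, ρN g n₁ = n₁ + r + a • c := by
      rcases L.eq_of_π h1 with h2 | h2
      · exact ⟨0, by rw [h2, zero_smul, add_zero]⟩
      · exact ⟨1, by rw [h2, one_smul]⟩
    refine ⟨a, fun n => ?_⟩
    rcases z2 (φ (π n)) with h2 | h2
    · rw [h0 n h2, h2, zero_smul, add_zero]
    · have h3 : φ (π (n + n₁)) = 0 := by rw [map_add, map_add, h2, hn₁]; exact z2_add_self 1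
      have h4 := h0 _ h3
      rw [map_add, ha] at h4
      rw [h2, one_smul]
      have h5 : ρN g n = n + n₁ + (n₁ + r + a • c) := by
        rw [← h4, add_add_self]
      rw [h5]
      calc n + n₁ + (n₁ + r + a • c) = n + (r + a • c) + (n₁ + n₁) := by abel
        _ = n + (r + a • c) := by rw [v_add_self, add_zero]
  · push Not at hφ
    refine ⟨0, fun n => ?_⟩
    have h1 := z2_ne_one (hφ n)
    rw [h0 n h1, h1, zero_smul, add_zero]

/-- For every induced transvection with centre `π r`, `Bf · r` is constant on the moved vectors. -/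
theorem exists_const {r : N} (hr : r ∈ OmN) {φ : Dual (ZMod 2) V} (hφ : Fn ρ (π r) φ) :
    ∃ a : ZMod 2, ∀ n, φ (π n) = 1 → Bf OmN n r = a := by
  obtain ⟨_, g, hg⟩ := hφ
  obtain ⟨a, ha⟩ := L.exists_a hr hg
  refine ⟨a, fun n hn => ?_⟩
  have h1 := L.Q_inv g n
  rw [ha n, hn, one_smul, ← add_assoc, L.Q_add_smul] at h1
  unfold Bf
  rw [Qf_of_mem hr]
  have e := z2_add_self (Qf OmN n)
  have e' := z2_add_self a
  linear_combination h1 + e - e'

/-- If `Bf` vanishes on `OmN`, then `OmN ∪ {0}` is a subspace: impossible. -/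
theorem not_flat (h : ∀ z ∈ OmN, ∀ z' ∈ OmN, Bf OmN z z' = 0) : False := by
  let W : Submodule (ZMod 2) N :=
    { carrier := {n | Qf OmN n = 0}
      zero_mem' := Qf_zero
      add_mem' := by
        intro a b ha hb
        show Qf OmN (a + b) = 0
        rcases Qf_eq_zero.1 ha with rfl | ha'
        · rw [zero_add]; exact hb
        · rcases Qf_eq_zero.1 hb with rfl | hb'
          · rw [add_zero]; exact ha
          · have h1 := h a ha' b hb'
            unfold Bf at h1
            rw [Qf_of_mem ha', Qf_of_mem hb', add_zero, add_zero] at h1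
            exact h1
      smul_mem' := by
        intro k x hx
        rcases z2 k with rfl | rfl
        · rw [zero_smul]; exact Qf_zero
        · rwa [one_smul] }
  have h1 : Submodule.span (ZMod 2) OmN ≤ W := Submodule.span_le.2 fun z hz => Qf_of_mem hz
  have h2 : c ∈ W := h1 (by rw [L.span]; trivial)
  have h3 : Qf OmN c = 0 := h2
  rw [L.Q_c] at h3
  exact one_ne_zero h3

/-- Transitivity on `OmN`. -/
theorem trans {z z' : N} (hz : z ∈ OmN) (hz' : z' ∈ OmN) : ∃ g : H, ρN g z = z' := by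
  obtain ⟨g, hg⟩ := L.sys.trans (π z) ⟨z, hz, rfl⟩ (π z') ⟨z', hz', rfl⟩
  exact ⟨g, L.inj (L.inv g z hz) hz' (by rw [L.equi, hg])⟩

/-- (B1), two nontrivial transvections with the same centre: impossible. -/
theorem not_big (hb : Sys.Big ρ (π '' OmN)) {r p : N} (hr : r ∈ OmN) (hp : p ∈ OmN)
    (hrp : r + p ∈ OmN) : False := by
  have hadj : ∀ v ∈ π '' OmN, ∀ w ∈ π '' OmN, v ≠ w → Adj ρ v w := fun v hv w hw hne =>
    L.sys.adj_of_near hb hv hw hne (L.near v hv w hw)
  have hr0 : ∀ n, π n ≠ 0 → π n ≠ π r → Bf OmN n r = 0 := by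
    intro n h1 h2
    have hrm : π r ∈ π '' OmN := ⟨r, hr, rfl⟩
    have hpr : π p ≠ π r := by
      intro e
      apply L.ne_zero hrp
      rw [L.inj hp hr e, v_add_self]
    obtain ⟨φ, hφ, e1⟩ := hadj _ hrm _ (L.all h1) h2.symm
    obtain ⟨ψ, hψ, e2⟩ := hadj _ hrm _ ⟨p, hp, rfl⟩ hpr.symm
    have hkey : ∃ χ, Fn ρ (π r) χ ∧ χ (π n) = 1 ∧ χ (π p) = 1 := by
      by_cases e3 : φ (π p) = 1
      · exact ⟨φ, hφ, e1, e3⟩
      by_cases e4 : ψ (π n) = 1
      · exact ⟨ψ, hψ, e4, e2⟩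
      refine ⟨φ + ψ, hφ.add hψ, ?_, ?_⟩
      · rw [LinearMap.add_apply, e1, z2_ne_one e4, add_zero]
      · rw [LinearMap.add_apply, e2, z2_ne_one e3, zero_add]
    obtain ⟨χ, hχ, e5, e6⟩ := hkey
    obtain ⟨a, ha⟩ := L.exists_const hr hχ
    rw [ha n e5, ← ha p e6]
    unfold Bf
    rw [add_comm p r, Qf_of_mem hrp, Qf_of_mem hp, Qf_of_mem hr, add_zero, add_zero]
  refine L.not_flat fun z hz z' hz' => ?_
  by_cases hne : z = z'
  · subst hne
    unfold Bf
    rw [v_add_self, Qf_zero, Qf_of_mem hz, add_zero, add_zero]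
  · obtain ⟨g, hg⟩ := L.trans hr hz'
    have h1 := L.B_inv g (ρN g⁻¹ z) r
    rw [rinv', hg] at h1
    rw [h1]
    have hm : ρN g⁻¹ z ∈ OmN := L.inv _ z hz
    refine hr0 _ (L.π_ne hm) fun e => hne ?_
    have h2 := L.inj hm hr e
    rw [← hg, ← h2, rinv']

end Lft

/-- Two functionals on a subspace. -/
theorem exists_both {W : Type*} [AddCommGroup W] [Module (ZMod 2) W] {α β : Dual (ZMod 2) W}
    {P : W → Prop} (hP : ∀ x y, P x → P y → P (x + y)) (hα : ∃ x, P x ∧ α x = 1)
    (hβ : ∃ x, P x ∧ β x = 1) : ∃ x, P x ∧ α x = 1 ∧ β x = 1 := by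
  obtain ⟨x, hx, h1⟩ := hα
  obtain ⟨y, hy, h2⟩ := hβ
  by_cases h3 : β x = 1
  · exact ⟨x, hx, h1, h3⟩
  by_cases h4 : α y = 1
  · exact ⟨y, hy, h4, h2⟩
  exact ⟨x + y, hP x y hx hy, by rw [map_add, h1, z2_ne_one h4, add_zero],
    by rw [map_add, h2, z2_ne_one h3, zero_add]⟩

namespace Frm

variable {f : V →ₗ[ZMod 2] V →ₗ[ZMod 2] ZMod 2} {Om : Set V}

/-- A vector `x` outside `{0, y}` is not orthogonal to `y^⊥`. -/
theorem exists_perp (hnd : ∀ x, f x = 0 → x = 0) {x y : V} (hx : x ≠ 0) (hxy : x ≠ y) :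
    ∃ z, f y z = 0 ∧ f x z = 1 := by
  by_contra hcon
  push Not at hcon
  have h0 : ∀ z, f y z = 0 → f x z = 0 := fun z hz => z2_ne_one (hcon z hz)
  by_cases hy : ∃ z₀, f y z₀ = 1
  · obtain ⟨z₀, hz₀⟩ := hy
    have h1 : ∀ z, f x z = f y z * f x z₀ := by
      intro z
      rcases z2 (f y z) with e | e
      · rw [e, zero_mul, h0 z e]
      · have h2 := h0 (z + z₀) (by rw [map_add, e, hz₀]; exact z2_add_self 1)
        rw [map_add] at h2
        rw [e, one_mul]
        have h3 := z2_add_self (f x z₀)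
        linear_combination h2 - h3
    rcases z2 (f x z₀) with e | e
    · apply hx
      refine hnd x (LinearMap.ext fun z => ?_)
      rw [h1, e, mul_zero]
      rfl
    · apply hxy
      have h2 : f (x + y) = 0 := LinearMap.ext fun z => by
        rw [map_add, LinearMap.add_apply, h1 z, e, mul_one]
        exact z2_add_self _
      exact v_eq_of_add (hnd _ h2)
  · push Not at hy
    apply hx
    refine hnd x (LinearMap.ext fun z => ?_)
    exact h0 z (z2_ne_one (hy z))

end Frm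

namespace Lft

variable (L : Lft ρN ρ π OmN c) [Finite V] {f : V →ₗ[ZMod 2] V →ₗ[ZMod 2] ZMod 2}

include L

/-- The form is nondegenerate. -/
theorem nondeg (hf : Frm ρ (π '' OmN) f) (x : V) (hx : f x = 0) : x = 0 := by
  by_contra h
  exact hf.ne x (L.all h) hx

/-- (B1), one nontrivial transvection for every centre: the polar function is the form. -/
theorem B_eq (hf : Frm ρ (π '' OmN) f) {r p : N} (hr : r ∈ OmN) (hp : p ∈ OmN)
    (hrp : r + p ∈ OmN) (h0 : f (π r) (π p) = 0) (n m : N) :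
    Bf OmN n m = f (π n) (π m) := by
  have hnd := L.nondeg hf
  -- the constant for `f = 1`
  obtain ⟨a, ha⟩ := L.exists_const hr (hf.fn (π r) ⟨r, hr, rfl⟩)
  have h1 : ∀ z ∈ OmN, ∀ n, f (π z) (π n) = 1 → Bf OmN n z = a := by
    intro z hz n hn
    obtain ⟨g, hg⟩ := L.trans hr hz
    have e1 := L.B_inv g (ρN g⁻¹ n) r
    rw [rinv', hg] at e1
    rw [e1]
    apply ha
    have e2 := hf.inv g (π r) (π (ρN g⁻¹ n))
    rw [← L.equi, ← L.equi, rinv', hg, hn] at e2
    exact e2.symm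
  have h1' : ∀ n m, f (π n) (π m) = 1 → Bf OmN n m = a := by
    intro n m hnm
    have hm : π m ≠ 0 := by
      intro e
      rw [e, map_zero] at hnm
      exact zero_ne_one hnm
    obtain ⟨z, hz, hzm⟩ := L.all hm
    rw [L.B_congr (rfl : π n = π n) hzm.symm]
    exact h1 z hz n (by rw [hf.comm, hzm, hnm])
  have hcoc : ∀ x y z, Bf OmN x y + Bf OmN (x + y) z = Bf OmN y z + Bf OmN x (y + z) := Bf_cocycle
  -- pairs with `f = 0`: adjacency
  have h2 : ∀ x y z : N, f (π x) (π y) = 0 → f (π y) (π z) = 0 → f (π x) (π z) = 1 →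
      Bf OmN x y = Bf OmN z y := by
    intro x y z e1 e2 e3
    have e4 := hcoc x y z
    rw [h1' (x + y) z (by rw [map_add, map_add, LinearMap.add_apply, e3, e2, add_zero]),
      h1' x (y + z) (by rw [map_add, map_add, e1, e3, zero_add])] at e4
    rw [Bf_comm z y]
    exact add_right_cancel e4
  have h3 : ∀ x x' y : N, π x ≠ 0 → π x ≠ π y → π x' ≠ 0 → π x' ≠ π y → f (π x) (π y) = 0 →
      f (π x') (π y) = 0 → Bf OmN x y = Bf OmN x' y := by
    intro x x' y e1 e2 e3 e4 e5 e6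
    obtain ⟨z, hz, hz1, hz2⟩ := exists_both (α := f (π x)) (β := f (π x')) (P := fun z => f (π y) z = 0)
      (fun u v hu hv => by rw [map_add, hu, hv, add_zero]) (Frm.exists_perp hnd e1 e2)
      (Frm.exists_perp hnd e3 e4)
    have hz0 : z ≠ 0 := by
      rintro rfl
      rw [map_zero] at hz1
      exact zero_ne_one hz1
    obtain ⟨z', _, rfl⟩ := L.all hz0
    rw [h2 x y z' e5 hz hz1, h2 x' y z' e6 hz hz2]
  have hpr : π p ≠ π r := by
    intro e
    apply L.ne_zero hrp
    rw [L.inj hp hr e, v_add_self]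
  have hB0 : Bf OmN p r = 0 := by
    unfold Bf
    rw [add_comm p r, Qf_of_mem hrp, Qf_of_mem hp, Qf_of_mem hr, add_zero, add_zero]
  have h4 : ∀ z ∈ OmN, ∀ n, π n ≠ 0 → π n ≠ π z → f (π n) (π z) = 0 → Bf OmN n z = 0 := by
    intro z hz n e1 e2 e3
    obtain ⟨g, hg⟩ := L.trans hr hz
    have e4 := L.B_inv g (ρN g⁻¹ n) r
    rw [rinv', hg] at e4
    rw [e4, ← hB0]
    have hπ : π n = ρ g (π (ρN g⁻¹ n)) := by rw [← L.equi, rinv']
    have hz' : π z = ρ g (π r) := by rw [← L.equi, hg]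
    refine h3 _ _ _ ?_ ?_ (L.π_ne hp) hpr ?_ (by rw [hf.comm, h0])
    · intro e
      apply e1
      rw [hπ, e, map_zero]
    · intro e
      apply e2
      rw [hπ, hz', e]
    · have e5 := hf.inv g (π (ρN g⁻¹ n)) (π r)
      rw [← hπ, ← hz', e3] at e5
      exact e5.symm
  have h5 : ∀ n m, f (π n) (π m) = 0 → Bf OmN n m = 0 := by
    intro n m e
    by_cases hm : π m = 0
    · rw [L.B_congr (rfl : π n = π n) (show π m = π 0 by rw [hm, map_zero])]
      unfold Bf
      rw [add_zero, Qf_zero, add_zero]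
      exact z2_add_self _
    by_cases hn : π n = 0
    · rw [L.B_congr (show π n = π 0 by rw [hn, map_zero]) (rfl : π m = π m)]
      unfold Bf
      rw [zero_add, Qf_zero, add_zero]
      exact z2_add_self _
    obtain ⟨z, hz, hzm⟩ := L.all hm
    rw [L.B_congr (rfl : π n = π n) hzm.symm]
    by_cases hnm : π n = π z
    · rw [L.B_congr hnm (rfl : π z = π z)]
      unfold Bf
      rw [v_add_self, Qf_zero, Qf_of_mem hz, add_zero, add_zero]
    · exact h4 z hz n hn hnm (by rw [hzm, e])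
  rcases z2 a with rfl | rfl
  · exfalso
    refine L.not_flat fun z _ z' _ => ?_
    rcases z2 (f (π z) (π z')) with e | e
    · exact h5 z z' e
    · exact h1' z z' e
  · rcases z2 (f (π n) (π m)) with e | e
    · rw [e]; exact h5 n m e
    · rw [e]; exact h1' n m e

/-- **(B1)**: `Q` is a quadratic form with polar form `f`. -/
theorem Q_add (hf : Frm ρ (π '' OmN) f) {r p : N} (hr : r ∈ OmN) (hp : p ∈ OmN)
    (hrp : r + p ∈ OmN) (h0 : f (π r) (π p) = 0) (n m : N) :
    Qf OmN (n + m) = Qf OmN n + Qf OmN m + f (π n) (π m) := by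
  have h1 := L.B_eq hf hr hp hrp h0 n m
  unfold Bf at h1
  have e1 := z2_add_self (Qf OmN n)
  have e2 := z2_add_self (Qf OmN m)
  linear_combination h1 - e1 - e2

/-- The transvection of `V` with centre `π z` is induced on `N` by a reflection. -/
theorem exists_refl (hf : Frm ρ (π '' OmN) f) {r p : N} (hr : r ∈ OmN) (hp : p ∈ OmN)
    (hrp : r + p ∈ OmN) (h0 : f (π r) (π p) = 0) {z : N} (hz : z ∈ OmN) {g : H}
    (hg : ∀ x, ρ g x = x + f (π z) x • π z) (n : N) :
    ρN g n = n + f (π z) (π n) • (z + c) := by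
  obtain ⟨a, ha⟩ := L.exists_a hz hg
  have h1 : a = 1 := by
    obtain ⟨x, hx⟩ : ∃ x, f (π z) x = 1 := by
      by_contra hcon
      push Not at hcon
      exact hf.ne _ ⟨z, hz, rfl⟩ (LinearMap.ext fun x => z2_ne_one (hcon x))
    have hx0 : x ≠ 0 := by
      rintro rfl
      rw [map_zero] at hx
      exact zero_ne_one hx
    obtain ⟨m, hm, rfl⟩ := L.all hx0
    have h2 := L.Q_inv g m
    rw [ha m, hx, one_smul, ← add_assoc, L.Q_add_smul, L.Q_add hf hr hp hrp h0, Qf_of_mem hm,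
      Qf_of_mem hz, hf.comm, hx] at h2
    refine z2_ne_zero fun e => ?_
    rw [e] at h2
    exact absurd h2 (by decide)
  rw [ha n, h1, one_smul]

end Lft

end Cfsg.Agent.Omega.TV
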