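import Cfsg.Agent.Omega.TV.Lift
import Cfsg.Agent.Omega.TV.Group

/-!
# (B1): the orthogonal module

helper304, OMEGA / II.d.  `H` acts on the `𝔽₂`-space `N`, `OmN` is the orbit of `r`, spanning `N`, `c ≠ 0`
is fixed by `H`, a Sylow 2-subgroup `T` of `H` fixes `r` and has fixed vectors `0, c, r, r + c` only; some
`t₀` acts nontrivially with `[N, t₀] ≤ {0, c, r, r + c}` and fixes a point `p` such that `r + p` is a
point.  Then `N` carries a quadratic form: `Qf OmN`, with radical `{0, c}`.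
-/

set_option autoImplicit false

namespace Cfsg.Agent.Omega.TV

open Module

section general

variable {H : Type*} [Group H] [Finite H] {N : Type*} [AddCommGroup N] [Module (ZMod 2) N]

/-- `K` normal, `K/F` a 2-group: `K ≤ T F` for every Sylow 2-subgroup `T`. -/
theorem exists_mem_sylow (T : Sylow 2 H) {K F : Subgroup H} (hK : K.Normal) [hF : F.Normal]
    (hp : ∀ k ∈ K, ∃ m : ℕ, k ^ 2 ^ m ∈ F) {k : H} (hk : k ∈ K) : ∃ t ∈ T, t⁻¹ * k ∈ F := by
  have : Fact (Nat.Prime 2) := ⟨Nat.prime_two⟩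
  have hKn : (K.map (QuotientGroup.mk' F)).Normal :=
    hK.map _ (QuotientGroup.mk'_surjective F)
  have hKp : IsPGroup 2 (K.map (QuotientGroup.mk' F)) := by
    rintro ⟨x, hx⟩
    obtain ⟨k, hk, rfl⟩ := hx
    obtain ⟨m, hm⟩ := hp k hk
    refine ⟨m, Subtype.ext ?_⟩
    rw [SubmonoidClass.coe_pow, Subgroup.coe_one]
    show QuotientGroup.mk' F k ^ 2 ^ m = 1
    rw [← map_pow]
    exact (QuotientGroup.eq_one_iff _).2 hm
  have hle : K.map (QuotientGroup.mk' F) ≤
      ((T.mapSurjective (QuotientGroup.mk'_surjective F) : Sylow 2 (H ⧸ F)) :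
        Subgroup (H ⧸ F)) := by
    obtain ⟨Q, hQ⟩ := hKp.exists_le_sylow
    intro x hx
    obtain ⟨g, hg⟩ := MulAction.exists_smul_eq (H ⧸ F) Q
      (T.mapSurjective (QuotientGroup.mk'_surjective F))
    rw [← hg]
    have hx' : g⁻¹ * x * g ∈ K.map (QuotientGroup.mk' F) := by
      have := hKn.conj_mem x hx g⁻¹
      simpa using this
    have h1 : g * (g⁻¹ * x * g) * g⁻¹ ∈ g • Q := by
      refine Set.mem_smul_set.2 ⟨g⁻¹ * x * g, hQ hx', ?_⟩
      show MulAut.conj g (g⁻¹ * x * g) = _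
      rw [MulAut.conj_apply]
    have e : g * (g⁻¹ * x * g) * g⁻¹ = x := by group
    rwa [e] at h1
  have h1 := hle (Subgroup.mem_map_of_mem _ hk)
  obtain ⟨t, ht, e⟩ := h1
  refine ⟨t, ht, ?_⟩
  rw [← QuotientGroup.eq]
  exact e

/-- A normal subgroup acting as a 2-group acts trivially, if a Sylow 2-subgroup fixes a generating vector. -/
theorem triv_of_normal (ρN : H →* (N ≃ₗ[ZMod 2] N)) {T : Subgroup H} (hT : IsPGroup 2 T)
    (hi : ¬ 2 ∣ T.index) {r : N} (hr : ∀ t ∈ T, ρN t r = r)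
    (hspan : Submodule.span (ZMod 2) {x | ∃ g, ρN g r = x} = ⊤) {K : Subgroup H} (hK : K.Normal)
    (hp : ∀ k ∈ K, ∃ m : ℕ, ∀ n, ρN (k ^ 2 ^ m) n = n) {k : H} (hk : k ∈ K) (n : N) : ρN k n = n := by
  have : Fact (Nat.Prime 2) := ⟨Nat.prime_two⟩
  have hKr : ∀ k ∈ K, ρN k r = r := by
    intro k hk
    obtain ⟨t, ht, hf⟩ := exists_mem_sylow (hT.toSylow hi) (K := K) (F := ρN.ker) hK (fun k hk => by
      obtain ⟨m, hm⟩ := hp k hk
      exact ⟨m, (MonoidHom.mem_ker).2 (LinearEquiv.ext fun n => hm n)⟩) hk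
    have ht' : t ∈ T := ht
    have h1 : ρN (t⁻¹ * k) r = r := by
      rw [(MonoidHom.mem_ker).1 hf]
      rfl
    have h2 : ρN k r = ρN t (ρN (t⁻¹ * k) r) := by
      rw [← rmul, mul_inv_cancel_left]
    rw [h2, h1, hr t ht']
  have hall : ∀ x ∈ Submodule.span (ZMod 2) {x | ∃ g, ρN g r = x}, ρN k x = x := by
    intro x hx
    induction hx using Submodule.span_induction with
    | mem x hx =>
      obtain ⟨g, rfl⟩ := hx
      have h1 := hKr _ (hK.conj_mem k hk g⁻¹)
      have h2 : ρN k (ρN g r) = ρN g (ρN (g⁻¹ * k * g⁻¹⁻¹) r) := by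
        rw [← rmul, ← rmul]
        congr 2
        group
      rw [h2, h1]
    | zero => exact map_zero _
    | add x y _ _ hx hy => rw [map_add, hx, hy]
    | smul a x _ hx => rw [map_smul, hx]
  exact hall n (by rw [hspan]; trivial)

omit [Finite H] in
/-- The representation on the quotient by a fixed vector. -/
def qrep (ρN : H →* (N ≃ₗ[ZMod 2] N)) (c : N) (hc : ∀ g, ρN g c = c) :
    H →* ((N ⧸ Submodule.span (ZMod 2) {c}) ≃ₗ[ZMod 2] (N ⧸ Submodule.span (ZMod 2) {c})) where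
  toFun g := Submodule.Quotient.equiv _ _ (ρN g) (by
    rw [Submodule.map_span, Set.image_singleton]
    have e : ((ρN g : N ≃ₗ[ZMod 2] N) : N →ₗ[ZMod 2] N) c = c := hc g
    rw [e])
  map_one' := by
    apply LinearEquiv.ext
    intro x
    obtain ⟨n, rfl⟩ := Submodule.Quotient.mk_surjective _ x
    show (Submodule.Quotient.mk (ρN 1 n) : N ⧸ Submodule.span (ZMod 2) {c}) = Submodule.Quotient.mk n
    rw [rone]
  map_mul' := by
    intro g g'
    apply LinearEquiv.ext
    intro x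
    obtain ⟨n, rfl⟩ := Submodule.Quotient.mk_surjective _ x
    show (Submodule.Quotient.mk (ρN (g * g') n) : N ⧸ Submodule.span (ZMod 2) {c}) =
      Submodule.Quotient.mk (ρN g (ρN g' n))
    rw [rmul]

omit [Finite H] in
theorem qrep_mk {ρN : H →* (N ≃ₗ[ZMod 2] N)} {c : N} (hc : ∀ g, ρN g c = c) (g : H) (n : N) :
    (Submodule.span (ZMod 2) {c}).mkQ (ρN g n) = qrep ρN c hc g ((Submodule.span (ZMod 2) {c}).mkQ n) :=
  rfl

theorem mem_span_c {c n : N} : n ∈ Submodule.span (ZMod 2) {c} ↔ n = 0 ∨ n = c := by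
  rw [Submodule.mem_span_singleton]
  constructor
  · rintro ⟨a, rfl⟩
    rcases z2 a with rfl | rfl
    · exact Or.inl (zero_smul _ _)
    · exact Or.inr (one_smul _ _)
  · rintro (rfl | rfl)
    · exact ⟨0, zero_smul _ _⟩
    · exact ⟨1, one_smul _ _⟩

end general

section

variable {H : Type*} [Group H] {N : Type*} [AddCommGroup N] [Module (ZMod 2) N]

/-- The hypotheses of (B1). -/
structure Hyp (ρN : H →* (N ≃ₗ[ZMod 2] N)) (T : Subgroup H) (r c p : N) (t₀ : H) : Prop where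
  hT : IsPGroup 2 T
  hi : ¬ 2 ∣ T.index
  c_ne : c ≠ 0
  c_fix : ∀ g, ρN g c = c
  span : Submodule.span (ZMod 2) {x | ∃ g, ρN g r = x} = ⊤
  r_fix : ∀ t ∈ T, ρN t r = r
  fix : ∀ n, (∀ t ∈ T, ρN t n = n) → n = 0 ∨ n = c ∨ n = r ∨ n = r + c
  p_mem : ∃ g, ρN g r = p
  rp_mem : ∃ g, ρN g r = r + p
  t_quad : ∀ n, ρN t₀ n = n ∨ ρN t₀ n = n + c ∨ ρN t₀ n = n + r ∨ ρN t₀ n = n + (r + c)
  t_ne : ∃ n, ρN t₀ n ≠ n
  t_p : ρN t₀ p = p

namespace Hyp

variable {ρN : H →* (N ≃ₗ[ZMod 2] N)} {T : Subgroup H} {r c p : N} {t₀ : H}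
  (h : Hyp ρN T r c p t₀)

include h

theorem r_ne : r ≠ 0 := by
  rintro rfl
  obtain ⟨n, hn⟩ := h.t_ne
  have h1 : n ∈ Submodule.span (ZMod 2) {x | ∃ g, ρN g (0 : N) = x} := by rw [h.span]; trivial
  have h2 : Submodule.span (ZMod 2) {x | ∃ g, ρN g (0 : N) = x} ≤ ⊥ := by
    refine Submodule.span_le.2 ?_
    rintro _ ⟨g, rfl⟩
    exact map_zero _
  apply hn
  rw [(Submodule.mem_bot _).1 (h2 h1), map_zero]

theorem r_ne_c : r ≠ c := by
  rintro rfl
  obtain ⟨n, hn⟩ := h.t_ne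
  have h1 : n ∈ Submodule.span (ZMod 2) {x | ∃ g, ρN g r = x} := by rw [h.span]; trivial
  have h2 : Submodule.span (ZMod 2) {x | ∃ g, ρN g r = x} ≤ Submodule.span (ZMod 2) {r} := by
    refine Submodule.span_le.2 ?_
    rintro _ ⟨g, rfl⟩
    rw [h.c_fix]
    exact Submodule.mem_span_singleton_self r
  apply hn
  rcases mem_span_c.1 (h2 h1) with e | e
  · rw [e, map_zero]
  · rw [e, h.c_fix]

theorem π_r : (Submodule.span (ZMod 2) {c}).mkQ r ≠ 0 := by
  intro e
  have h1 : r ∈ Submodule.span (ZMod 2) {c} := (Submodule.Quotient.mk_eq_zero _).1 e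
  rcases mem_span_c.1 h1 with h2 | h2
  · exact h.r_ne h2
  · exact h.r_ne_c h2

/-- `r + c` is not a point. -/
theorem not_rc [Finite H] [Finite N] : ¬ ∃ g, ρN g r = r + c := by
  classical
  rintro ⟨g₀, hg₀⟩
  have : Fintype N := Fintype.ofFinite N
  -- the action of `H` on `N`
  let _act : MulAction H N :=
    { smul := fun g n => ρN g n
      one_smul := fun n => rone ρN n
      mul_smul := fun g g' n => rmul ρN g g' n }
  have hsm : ∀ (g : H) (n : N), g • n = ρN g n := fun _ _ => rfl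
  -- `|orbit|` is odd
  have h1 : ¬ 2 ∣ Nat.card (MulAction.orbit H r) := by
    intro hd
    apply h.hi
    have h2 : T ≤ MulAction.stabilizer H r := fun t ht => by
      rw [MulAction.mem_stabilizer_iff, hsm]
      exact h.r_fix t ht
    have h3 : (MulAction.stabilizer H r).index = Nat.card (MulAction.orbit H r) :=
      MulAction.index_stabilizer H r
    rw [← h3] at hd
    exact hd.trans (Subgroup.index_dvd_of_le h2)
  apply h1
  -- the fixed-point-free involution `z ↦ z + c`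
  have h4 : ∀ z ∈ MulAction.orbit H r, z + c ∈ MulAction.orbit H r := by
    rintro _ ⟨g, rfl⟩
    refine ⟨g * g₀, ?_⟩
    show ρN (g * g₀) r = ρN g r + c
    rw [rmul, hg₀, map_add, h.c_fix]
  let A : Finset N := Finset.univ.filter fun z => z ∈ MulAction.orbit H r
  have hA : ∀ z, z ∈ A ↔ z ∈ MulAction.orbit H r := fun z => by simp [A]
  have h5 : ∑ z ∈ A, (1 : ZMod 2) = 0 := by
    refine Finset.sum_involution (fun z _ => z + c) ?_ ?_ ?_ ?_
    · intro z _
      exact z2_add_self 1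
    · intro z _ _ e
      exact h.c_ne (by simpa using e)
    · intro z hz
      exact (hA _).2 (h4 z ((hA z).1 hz))
    · intro z _
      exact add_add_self z c
  rw [Finset.sum_const, nsmul_eq_mul, mul_one] at h5
  have h6 : Nat.card (MulAction.orbit H r) = A.card := by
    rw [Nat.card_eq_fintype_card, Fintype.card_subtype]
  rw [h6]
  exact (ZMod.natCast_eq_zero_iff _ _).1 h5

/-- The functional of `t₀`. -/
theorem exists_fn [Finite H] : ∃ φ : Dual (ZMod 2) (N ⧸ Submodule.span (ZMod 2) {c}), φ ≠ 0 ∧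
    (∀ x, qrep ρN c h.c_fix t₀ x = x + φ x • (Submodule.span (ZMod 2) {c}).mkQ r) ∧
    Fn (qrep ρN c h.c_fix) ((Submodule.span (ZMod 2) {c}).mkQ r) φ ∧
    φ ((Submodule.span (ZMod 2) {c}).mkQ p) = 0 := by
  have hπc : (Submodule.span (ZMod 2) {c}).mkQ c = 0 :=
    (Submodule.Quotient.mk_eq_zero _).2 (Submodule.mem_span_singleton_self c)
  obtain ⟨φ, hφ⟩ := exists_functional (qrep ρN c h.c_fix t₀) h.π_r (fun x => by
    obtain ⟨n, rfl⟩ := (Submodule.mkQ_surjective _) x
    rw [← qrep_mk]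
    rcases h.t_quad n with e | e | e | e <;> rw [e]
    · exact Or.inl rfl
    · rw [map_add, hπc, add_zero]; exact Or.inl rfl
    · rw [map_add]; exact Or.inr rfl
    · rw [map_add, map_add, hπc, add_zero]; exact Or.inr rfl)
  have hr0 : φ ((Submodule.span (ZMod 2) {c}).mkQ r) = 0 := by
    by_contra hne
    have h1 := hφ ((Submodule.span (ZMod 2) {c}).mkQ r)
    rw [z2_ne_zero hne, one_smul, v_add_self] at h1
    exact h.π_r ((qrep ρN c h.c_fix t₀).map_eq_zero_iff.1 h1)
  refine ⟨φ, ?_, hφ, ⟨hr0, t₀, hφ⟩, ?_⟩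
  · rintro rfl
    -- then `t₀` acts trivially on the quotient
    let K : Subgroup H := (qrep ρN c h.c_fix).ker
    have hK : K.Normal := MonoidHom.normal_ker _
    have ht : t₀ ∈ K := by
      refine (MonoidHom.mem_ker).2 (LinearEquiv.ext fun x => ?_)
      rw [hφ x, LinearMap.zero_apply, zero_smul, add_zero]
      rfl
    obtain ⟨n, hn⟩ := h.t_ne
    apply hn
    refine triv_of_normal ρN h.hT h.hi h.r_fix h.span hK ?_ ht n
    intro k hk
    refine ⟨1, fun m => ?_⟩
    have h1 : ∀ m, ρN k m = m ∨ ρN k m = m + c := by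
      intro m
      have h2 : (Submodule.span (ZMod 2) {c}).mkQ (ρN k m) = (Submodule.span (ZMod 2) {c}).mkQ m := by
        rw [qrep_mk h.c_fix, (MonoidHom.mem_ker).1 hk]
        rfl
      have h3 : ρN k m + m ∈ Submodule.span (ZMod 2) {c} := by
        rw [← Submodule.Quotient.mk_eq_zero]
        show (Submodule.span (ZMod 2) {c}).mkQ (ρN k m + m) = 0
        rw [map_add, h2, v_add_self]
      rcases mem_span_c.1 h3 with e | e
      · exact Or.inl (v_eq_of_add e)
      · right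
        rw [← e, add_comm (ρN k m), self_add_add]
    rw [pow_one, pow_two, rmul]
    rcases h1 m with e | e
    · rw [e, e]
    · rw [e, map_add, e, h.c_fix, add_add_self]
  · by_contra hne
    have h1 := hφ ((Submodule.span (ZMod 2) {c}).mkQ p)
    rw [z2_ne_zero hne, one_smul, ← qrep_mk h.c_fix, h.t_p] at h1
    exact h.π_r (by simpa using h1)

/-- The points of the quotient are a system. -/
theorem sys [Finite H] : Sys (qrep ρN c h.c_fix) ((Submodule.span (ZMod 2) {c}).mkQ '' {x | ∃ g, ρN g r = x}) where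
  zero := by
    rintro ⟨_, ⟨g, rfl⟩, e⟩
    rw [qrep_mk h.c_fix] at e
    exact h.π_r ((qrep ρN c h.c_fix g).map_eq_zero_iff.1 e)
  inv := by
    rintro g _ ⟨_, ⟨g', rfl⟩, rfl⟩
    exact ⟨ρN (g * g') r, ⟨g * g', rfl⟩, by rw [rmul, qrep_mk h.c_fix]⟩
  trans := by
    rintro _ ⟨_, ⟨g, rfl⟩, rfl⟩ _ ⟨_, ⟨g', rfl⟩, rfl⟩
    refine ⟨g' * g⁻¹, ?_⟩
    rw [← qrep_mk h.c_fix, rmul, rinv]
  span := by
    rw [← Submodule.map_span, h.span, Submodule.map_top, Submodule.range_mkQ]
  ex := by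
    obtain ⟨φ, h1, _, h2, _⟩ := h.exists_fn
    exact ⟨_, ⟨r, ⟨1, rone ρN r⟩, rfl⟩, φ, h1, h2⟩
  chain := by
    intro U hU g hg hg' v
    -- the stabiliser of the chain
    let K : Subgroup H :=
      { carrier := {g | (∀ u ∈ U, qrep ρN c h.c_fix g u = u) ∧ ∀ v, qrep ρN c h.c_fix g v + v ∈ U}
        one_mem' := ⟨fun u _ => rone _ u, fun v => by rw [rone, v_add_self]; exact U.zero_mem⟩
        mul_mem' := by
          rintro a b ⟨ha, ha'⟩ ⟨hb, hb'⟩
          refine ⟨fun u hu => by rw [rmul, hb u hu, ha u hu], fun v => ?_⟩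
          have e : qrep ρN c h.c_fix (a * b) v + v = (qrep ρN c h.c_fix a (qrep ρN c h.c_fix b v) +
              qrep ρN c h.c_fix b v) + (qrep ρN c h.c_fix b v + v) := by
            rw [rmul, ← add_assoc, add_add_self]
          rw [e]
          exact U.add_mem (ha' _) (hb' v)
        inv_mem' := by
          rintro a ⟨ha, ha'⟩
          have h1 : ∀ u ∈ U, qrep ρN c h.c_fix a⁻¹ u = u := fun u hu => by
            have := congrArg (qrep ρN c h.c_fix a⁻¹) (ha u hu)
            rw [rinv] at this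
            exact this.symm
          refine ⟨h1, fun v => ?_⟩
          have h2 := ha' (qrep ρN c h.c_fix a⁻¹ v)
          rwa [rinv', add_comm] at h2 }
    have hK : K.Normal := by
      constructor
      rintro a ⟨ha, ha'⟩ b
      refine ⟨fun u hu => ?_, fun v => ?_⟩
      · rw [rmul, rmul, ha _ (hU _ u hu), rinv']
      · have e : qrep ρN c h.c_fix (b * a * b⁻¹) v + v = qrep ρN c h.c_fix b
            (qrep ρN c h.c_fix a (qrep ρN c h.c_fix b⁻¹ v) + qrep ρN c h.c_fix b⁻¹ v) := by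
          rw [map_add, rinv', rmul, rmul]
        rw [e]
        exact hU b _ (ha' _)
    have hgK : g ∈ K := ⟨hg, hg'⟩
    obtain ⟨n, rfl⟩ := (Submodule.mkQ_surjective _) v
    rw [← qrep_mk h.c_fix]
    congr 1
    refine triv_of_normal ρN h.hT h.hi h.r_fix h.span hK ?_ hgK n
    intro k hk
    refine ⟨2, fun m => ?_⟩
    -- `k ^ 2` acts trivially on the quotient
    have h1 : ∀ m, ρN (k * k) m = m ∨ ρN (k * k) m = m + c := by
      intro m
      have h2 : (Submodule.span (ZMod 2) {c}).mkQ (ρN (k * k) m) = (Submodule.span (ZMod 2) {c}).mkQ m := by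
        rw [qrep_mk h.c_fix, rmul]
        have h3 := hk.2 ((Submodule.span (ZMod 2) {c}).mkQ m)
        have h4 := hk.1 _ h3
        rw [map_add] at h4
        exact add_right_cancel (h4.trans (add_comm _ _))
      have h3 : ρN (k * k) m + m ∈ Submodule.span (ZMod 2) {c} := by
        rw [← Submodule.Quotient.mk_eq_zero]
        show (Submodule.span (ZMod 2) {c}).mkQ (ρN (k * k) m + m) = 0
        rw [map_add, h2, v_add_self]
      rcases mem_span_c.1 h3 with e | e
      · exact Or.inl (v_eq_of_add e)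
      · right
        rw [← e, add_comm (ρN (k * k) m), self_add_add]
    have e4 : k ^ 2 ^ 2 = (k * k) * (k * k) := by
      have e5 : (2 : ℕ) ^ 2 = 2 * 2 := rfl
      rw [e5, pow_mul, pow_two, pow_two]
    rw [e4, rmul]
    rcases h1 m with e | e
    · rw [e, e]
    · rw [e, map_add, e, h.c_fix, add_add_self]

theorem lft [Finite H] [Finite N] : Lft ρN (qrep ρN c h.c_fix) (Submodule.span (ZMod 2) {c}).mkQ
    {x | ∃ g, ρN g r = x} c := by
  have hfin : Finite (N ⧸ Submodule.span (ZMod 2) {c}) :=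
    Finite.of_surjective _ (Submodule.mkQ_surjective _)
  have hs := h.sys
  obtain ⟨φ, h1, _, h2, h3⟩ := h.exists_fn
  have hr : (Submodule.span (ZMod 2) {c}).mkQ r ∈
      (Submodule.span (ZMod 2) {c}).mkQ '' {x | ∃ g, ρN g r = x} := ⟨r, ⟨1, rone ρN r⟩, rfl⟩
  have hclo : Sys.Clo (qrep ρN c h.c_fix) ((Submodule.span (ZMod 2) {c}).mkQ '' {x | ∃ g, ρN g r = x}) :=
    hs.clo_of (hs.add_mem_of_near hr (p := (Submodule.span (ZMod 2) {c}).mkQ p) ⟨p, h.p_mem, rfl⟩
      ⟨r + p, h.rp_mem, map_add _ _ _⟩ h2 h1 h3)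
  have hker : ∀ n, (Submodule.span (ZMod 2) {c}).mkQ n = 0 → n = 0 ∨ n = c := fun n hn =>
    mem_span_c.1 ((Submodule.Quotient.mk_eq_zero _).1 hn)
  have hkc : (Submodule.span (ZMod 2) {c}).mkQ c = 0 :=
    (Submodule.Quotient.mk_eq_zero _).2 (Submodule.mem_span_singleton_self c)
  have hns : ∀ z ∈ {x | ∃ g, ρN g r = x}, z + c ∉ {x | ∃ g, ρN g r = x} := by
    rintro _ ⟨g, rfl⟩ ⟨g', e⟩
    refine h.not_rc ⟨g⁻¹ * g', ?_⟩
    rw [rmul, e, map_add, rinv, h.c_fix]
  have hinv : ∀ (g : H), ∀ z ∈ {x | ∃ g, ρN g r = x}, ρN g z ∈ {x | ∃ g, ρN g r = x} := by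
    rintro g _ ⟨g', rfl⟩
    exact ⟨g * g', rmul ρN g g' r⟩
  have hnear := hs.near_all_lift hclo h.hT ρN (Submodule.span (ZMod 2) {c}).mkQ
    (fun g n => qrep_mk h.c_fix g n) (OmN := {x | ∃ g, ρN g r = x}) (fun s _ z hz => hinv s z hz)
    (by
      intro z hz z' hz' e
      have e1 : (Submodule.span (ZMod 2) {c}).mkQ (z + z') = 0 := by rw [map_add, e, v_add_self]
      rcases hker _ e1 with e2 | e2
      · exact v_eq_of_add e2
      · exfalso
        refine hns z' hz' ?_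
        rw [← e2, add_comm z, self_add_add]
        exact hz)
    (fun v hv => hv) hr (by
      intro n hn
      rcases h.fix n hn with e | e | e | e
      · left; rw [e, map_zero]
      · left; rw [e, hkc]
      · right; rw [e]
      · right; rw [e, map_add, hkc, add_zero])
  exact
    { equi := fun g n => qrep_mk h.c_fix g n
      ker := hker
      kc := hkc
      inv := hinv
      ns := hns
      span := h.span
      sys := hs
      clo := hclo
      near := fun v hv w hw => hs.near_trans hv hr hw (hs.near_symm hr hv (hnear v hv)) (hnear w hw) }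

end Hyp

/-- **The orthogonal module**: `Qf OmN` is a quadratic form on `N` with polar form `f`, radical `{0, c}`. -/
structure Orth (ρN : H →* (N ≃ₗ[ZMod 2] N)) (OmN : Set N) (c : N)
    (f : N →ₗ[ZMod 2] N →ₗ[ZMod 2] ZMod 2) : Prop where
  add : ∀ n m, Qf OmN (n + m) = Qf OmN n + Qf OmN m + f n m
  Qc : Qf OmN c = 1
  Q_inv : ∀ g n, Qf OmN (ρN g n) = Qf OmN n
  comm : ∀ n m, f n m = f m n
  alt : ∀ n, f n n = 0
  inv : ∀ g n m, f (ρN g n) (ρN g m) = f n m
  rad : ∀ n, f n = 0 → n = 0 ∨ n = c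
  fc : f c = 0
  trans : ∀ z ∈ OmN, ∀ z' ∈ OmN, ∃ g, ρN g z = z'
  refl : ∀ z ∈ OmN, ∃ g, ∀ n, ρN g n = n + f z n • (z + c)

/-- **(B1)**. -/
theorem Hyp.orth [Finite H] [Finite N] {ρN : H →* (N ≃ₗ[ZMod 2] N)} {T : Subgroup H} {r c p : N} {t₀ : H}
    (h : Hyp ρN T r c p t₀) : ∃ f : N →ₗ[ZMod 2] N →ₗ[ZMod 2] ZMod 2,
      Orth ρN {x | ∃ g, ρN g r = x} c f ∧ f r p = 0 ∧ ∀ n, ρN t₀ n = n + f r n • (r + c) := by
  have hfin : Finite (N ⧸ Submodule.span (ZMod 2) {c}) :=
    Finite.of_surjective _ (Submodule.mkQ_surjective _)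
  have L := h.lft
  have hr : r ∈ {x | ∃ g, ρN g r = x} := ⟨1, rone ρN r⟩
  rcases L.sys.small_or_big with hs | hb
  swap
  · exact (L.not_big hb hr h.p_mem h.rp_mem).elim
  obtain ⟨f, hf⟩ := L.sys.exists_form hs
  obtain ⟨φ, h1, h4, h2, h3⟩ := h.exists_fn
  have hφ : φ = f ((Submodule.span (ZMod 2) {c}).mkQ r) := hf.uniq _ ⟨r, hr, rfl⟩ φ h1 h2
  have h0 : f ((Submodule.span (ZMod 2) {c}).mkQ r) ((Submodule.span (ZMod 2) {c}).mkQ p) = 0 := by
    rw [← hφ, h3]
  refine ⟨(f.compl₁₂ (Submodule.span (ZMod 2) {c}).mkQ (Submodule.span (ZMod 2) {c}).mkQ), ?_, h0, ?_⟩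
  · exact
    { add := fun n m => L.Q_add hf hr h.p_mem h.rp_mem h0 n m
      Qc := L.Q_c
      Q_inv := L.Q_inv
      comm := fun n m => hf.comm _ _
      alt := fun n => hf.alt _
      inv := fun g n m => by
        show f ((Submodule.span (ZMod 2) {c}).mkQ (ρN g n)) ((Submodule.span (ZMod 2) {c}).mkQ (ρN g m)) = _
        rw [L.equi, L.equi, hf.inv]
        rfl
      rad := fun n hn => by
        refine L.ker n (L.nondeg hf _ (LinearMap.ext fun x => ?_))
        obtain ⟨m, rfl⟩ := (Submodule.mkQ_surjective _) x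
        exact LinearMap.congr_fun hn m
      fc := by
        refine LinearMap.ext fun m => ?_
        show f ((Submodule.span (ZMod 2) {c}).mkQ c) _ = 0
        rw [L.kc, map_zero, LinearMap.zero_apply]
      trans := fun z hz z' hz' => L.trans hz hz'
      refl := fun z hz => by
        obtain ⟨_, g, hg⟩ := hf.fn _ ⟨z, hz, rfl⟩
        exact ⟨g, L.exists_refl hf hr h.p_mem h.rp_mem h0 hz hg⟩ }
  · refine L.exists_refl hf hr h.p_mem h.rp_mem h0 hr ?_
    intro x
    rw [h4 x, hφ]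

end

end Cfsg.Agent.Omega.TV
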