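import Cfsg.Agent.Omega.TV.Form
import Cfsg.Agent.Omega.TV.One

/-!
# THEOREM TV (3): one transvection for every centre and a hyperbolic line stabilised by a Sylow group

helper304, OMEGA / II.d (bb #13722 (3), short proof bb #14186 (4a)).  If `|T_r| = 2`, `r`, `u` are points
with `f r u = 1` and a 2-group `S` fixes `r`, stabilises `{u, r + u}` and fixes only `0` and `r` in `V`,
then `Om = {r, u, r + u}` and `V = {0, r, u, r + u}`.
-/

set_option autoImplicit false

namespace Cfsg.Agent.Omega.TV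

open Module

variable {H : Type*} [Group H] {V : Type*} [AddCommGroup V] [Module (ZMod 2) V]
  {ρ : H →* (V ≃ₗ[ZMod 2] V)} {Om : Set V} {f : V →ₗ[ZMod 2] V →ₗ[ZMod 2] ZMod 2}

namespace Frm

/-- `S` acts on `Om_0`. -/
theorem Z.act (h : Sys ρ Om) (hf : Frm ρ Om f) {r u x : V} {s : H} (hsr : ρ s r = r)
    (hsu : ρ s u = u ∨ ρ s u = r + u) (hx : Z Om f r u x) : Z Om f r u (ρ s x) := by
  have h1 : f r (ρ s x) = 0 := by
    have h2 := hf.inv s r x
    rw [hsr] at h2
    rw [h2, hx.pr]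
  refine ⟨?_, h1, ?_, ?_⟩
  · intro e
    exact hx.ne ((ρ s).map_eq_zero_iff.1 e)
  · have h2 := hf.inv s u x
    rcases hsu with e | e
    · rw [e] at h2
      rw [h2, hx.pu]
    · rw [e, map_add, LinearMap.add_apply, h1, zero_add] at h2
      rw [h2, hx.pu]
  · have h2 := h.inv s _ hx.mem
    rwa [map_add, hsr] at h2

/-- The sum of a finite set of vectors invariant under `S` is fixed by `S`. -/
theorem sum_fixed {S : Subgroup H} (A : Finset V) (hA : ∀ s ∈ S, ∀ z ∈ A, ρ s z ∈ A) :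
    ∀ s ∈ S, ρ s (∑ z ∈ A, z) = ∑ z ∈ A, z := by
  classical
  intro s hs
  have h1 : ρ s (∑ z ∈ A, z) = ∑ z ∈ A, ρ s z := map_sum _ _ _
  have h2 : A.image (fun z => ρ s z) = A := by
    refine Finset.eq_of_subset_of_card_le ?_ ?_
    · intro z hz
      obtain ⟨x, hx, rfl⟩ := Finset.mem_image.1 hz
      exact hA s hs x hx
    · rw [Finset.card_image_of_injective _ (ρ s).injective]
  rw [h1, ← Finset.sum_image (f := fun z => z) (g := fun z => ρ s z)
    (fun a _ b _ hab => (ρ s).injective hab), h2]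

section

variable {r u : V} {S : Subgroup H}

/-- **TV (3)**: `Om_0` is empty. -/
theorem no_Z [Finite V] (h : Sys ρ Om) (hf : Frm ρ Om f) (hS : IsPGroup 2 S)
    (hr : r ∈ Om) (hu : u ∈ Om) (e : f r u = 1) (hsr : ∀ s ∈ S, ρ s r = r)
    (hsu : ∀ s ∈ S, ρ s u = u ∨ ρ s u = r + u)
    (hfix : ∀ v : V, (∀ s ∈ S, ρ s v = v) → v = 0 ∨ v = r) (x : V) : ¬ Z Om f r u x := by
  classical
  intro hx
  have : Fintype V := Fintype.ofFinite V
  let A : Finset V := Finset.univ.filter fun z => Z Om f r u z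
  have hA : ∀ z, z ∈ A ↔ Z Om f r u z := fun z => by simp [A]
  have hinv : ∀ s ∈ S, ∀ z, Z Om f r u z → Z Om f r u (ρ s z) := fun s hs z hz =>
    hz.act h hf (hsr s hs) (hsu s hs)
  have hcard : (A.card : ZMod 2) = 0 := by
    let _act : MulAction S {z // Z Om f r u z} :=
      { smul := fun s z => ⟨ρ (s : H) z, hinv s s.2 z z.2⟩
        one_smul := fun z => Subtype.ext (by
          show ρ ((1 : S) : H) (z : V) = z
          rw [Subgroup.coe_one, rone])
        mul_smul := fun s t z => Subtype.ext (by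
          show ρ ((s * t : S) : H) (z : V) = ρ (s : H) (ρ (t : H) z)
          rw [Subgroup.coe_mul, rmul]) }
    have h1 := hS.card_modEq_card_fixedPoints {z // Z Om f r u z}
    have h2 : Nat.card (MulAction.fixedPoints S {z // Z Om f r u z}) = 0 := by
      rw [Nat.card_eq_zero]
      left
      refine ⟨fun z => ?_⟩
      have h3 : ∀ s ∈ S, ρ s (z : {z // Z Om f r u z}).1 = (z : {z // Z Om f r u z}).1 := fun s hs =>
        congrArg Subtype.val (z.2 ⟨s, hs⟩)
      have hz := (z : {z // Z Om f r u z}).2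
      rcases hfix _ h3 with h4 | h4
      · exact hz.ne h4
      · have h5 := hz.pu
        rw [h4, hf.comm u r, e] at h5
        exact one_ne_zero h5
    have h3 : Nat.card {z // Z Om f r u z} = A.card := by
      rw [Nat.card_eq_fintype_card, Fintype.card_subtype]
    rw [h2, h3] at h1
    exact (ZMod.natCast_eq_zero_iff _ _).2 ((Nat.modEq_zero_iff_dvd).1 h1)
  have hσ : f x (∑ z ∈ A, z) = 0 := by
    rcases hfix _ (sum_fixed (ρ := ρ) A fun s hs z hz => (hA _).2 (hinv s hs z ((hA z).1 hz))) with h1 | h1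
    · rw [h1, map_zero]
    · rw [h1, hf.comm x r, hx.pr]
  have hs1 : ∑ z ∈ A, (1 + f x z) = 0 := by
    rw [Finset.sum_add_distrib, Finset.sum_const, nsmul_eq_mul, mul_one, hcard, zero_add, ← map_sum]
    exact hσ
  have hs2 : ∑ z ∈ A.erase x, (1 + f x z) = 0 := by
    refine Finset.sum_involution (fun z _ => if f x z = 0 then x + z else z) ?_ ?_ ?_ ?_
    · intro z hz
      by_cases h0 : f x z = 0
      · simp only [if_pos h0, map_add, hf.alt, zero_add]
        exact z2_add_self _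
      · simp only [if_neg h0]
        exact z2_add_self _
    · intro z hz hne
      have h0 : f x z = 0 := by
        by_contra h0
        rw [z2_ne_zero h0] at hne
        exact hne (z2_add_self 1)
      simp only [if_pos h0]
      intro e'
      exact hx.ne (by simpa using e')
    · intro z hz
      rw [Finset.mem_erase] at hz
      by_cases h0 : f x z = 0
      · simp only [if_pos h0]
        rw [Finset.mem_erase]
        refine ⟨?_, (hA _).2 (hx.add h hf hr hu e ((hA _).1 hz.2) h0 hz.1.symm)⟩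
        intro e'
        exact ((hA _).1 hz.2).ne (by simpa using e')
      · simp only [if_neg h0]
        rw [Finset.mem_erase]
        exact hz
    · intro z hz
      by_cases h0 : f x z = 0
      · simp only [if_pos h0, map_add, hf.alt, zero_add, self_add_add]
      · simp only [if_neg h0]
  rw [← Finset.add_sum_erase A (fun z => 1 + f x z) ((hA x).2 hx), hs2, hf.alt, add_zero, add_zero] at hs1
  exact one_ne_zero hs1

/-- Points not orthogonal to the line lie on it. -/
theorem eq_or_perp (h : Sys ρ Om) (hf : Frm ρ Om f) (hr : r ∈ Om) (hu : u ∈ Om) (e : f r u = 1)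
    (hno : ∀ x, ¬ Z Om f r u x) {w : V} (hw : w ∈ Om) :
    w = r ∨ w = u ∨ w = r + u ∨ (f r w = 0 ∧ f u w = 0) := by
  have e' : f u r = 1 := by rw [hf.comm, e]
  rcases z2 (f u w) with a | a <;> rcases z2 (f r w) with b | b
  · exact Or.inr (Or.inr (Or.inr ⟨b, a⟩))
  · by_cases h0 : u + w = 0
    · exact Or.inr (Or.inl (v_eq_of_add h0).symm)
    · exact absurd (Z.of_memu h hf hr hu e h0 (by rw [map_add, e, b, z2_add_self])
        (by rw [map_add, hf.alt, a, add_zero]) (by rw [self_add_add]; exact hw)) (hno _)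
  · by_cases h0 : r + w = 0
    · exact Or.inl (v_eq_of_add h0).symm
    · exact absurd ⟨h0, by rw [map_add, hf.alt, b, add_zero], by rw [map_add, e', a, z2_add_self],
        by rw [self_add_add]; exact hw⟩ (hno _)
  · by_cases h0 : r + (u + w) = 0
    · refine Or.inr (Or.inr (Or.inl ?_))
      rw [← add_assoc] at h0
      exact (v_eq_of_add h0).symm
    · refine absurd ⟨h0, by rw [map_add, map_add, hf.alt, e, b, z2_add_self, add_zero],
        by rw [map_add, map_add, e', hf.alt, a, zero_add, z2_add_self], ?_⟩ (hno _)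
      rw [self_add_add]
      exact hf.add_mem h hu hw a

/-- The class of `r` is the line. -/
theorem eq_of_near (h : Sys ρ Om) (hf : Frm ρ Om f) (hr : r ∈ Om) (hu : u ∈ Om) (e : f r u = 1)
    (hno : ∀ x, ¬ Z Om f r u x) {w : V} (hw : w ∈ Om) (hn : Sys.Near ρ Om r w) :
    w = r ∨ w = u ∨ w = r + u := by
  obtain ⟨v, hv, h1, h2⟩ := hn
  rw [hf.adj_iff hr] at h1
  rw [hf.adj_iff hv] at h2
  rcases hf.eq_or_perp h hr hu e hno hw with h3 | h3 | h3 | ⟨h3, h4⟩
  · exact Or.inl h3
  · exact Or.inr (Or.inl h3)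
  · exact Or.inr (Or.inr h3)
  · exfalso
    rcases hf.eq_or_perp h hr hu e hno hv with h5 | h5 | h5 | ⟨h5, _⟩
    · rw [h5, h3] at h2; exact zero_ne_one h2
    · rw [h5, h4] at h2; exact zero_ne_one h2
    · rw [h5, map_add, LinearMap.add_apply, h3, h4, add_zero] at h2; exact zero_ne_one h2
    · rw [h5] at h1; exact zero_ne_one h1

theorem clo_of_no_Z [Finite V] (h : Sys ρ Om) (hf : Frm ρ Om f) (hr : r ∈ Om) (hu : u ∈ Om)
    (e : f r u = 1) (hno : ∀ x, ¬ Z Om f r u x) : Sys.Clo ρ Om := by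
  refine h.clo_of fun b hb c hc hn hne => ?_
  obtain ⟨g, hg⟩ := h.trans r hr b hb
  have hm : ρ g⁻¹ c ∈ Om := h.inv _ c hc
  have hn' : Sys.Near ρ Om r (ρ g⁻¹ c) := by
    have h1 := Sys.Near.conj h hn g⁻¹
    rwa [← hg, rinv] at h1
  have hru : r + u ∈ Om := hf.add_mem h hr hu e
  have hkey : r + ρ g⁻¹ c ∈ Om := by
    rcases hf.eq_of_near h hr hu e hno hm hn' with h1 | h1 | h1
    · exfalso
      apply hne
      rw [← hg, ← h1, rinv']
    · rw [h1]; exact hru
    · rw [h1, self_add_add]; exact hu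
  have h2 := h.inv g _ hkey
  rwa [map_add, hg, rinv'] at h2

/-- **TV (3)**: there are exactly three points. -/
theorem three [Finite V] (h : Sys ρ Om) (hf : Frm ρ Om f) (hS : IsPGroup 2 S)
    (hr : r ∈ Om) (hu : u ∈ Om) (e : f r u = 1) (hsr : ∀ s ∈ S, ρ s r = r)
    (hsu : ∀ s ∈ S, ρ s u = u ∨ ρ s u = r + u)
    (hfix : ∀ v : V, (∀ s ∈ S, ρ s v = v) → v = 0 ∨ v = r) {w : V} (hw : w ∈ Om) :
    w = r ∨ w = u ∨ w = r + u := by
  have hno := hf.no_Z h hS hr hu e hsr hsu hfix
  exact hf.eq_of_near h hr hu e hno hw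
    (h.near_all (hf.clo_of_no_Z h hr hu e hno) hS hr hfix w hw)

/-- **TV (3)**: `V = {0, r, u, r + u}`. -/
theorem four [Finite V] (h : Sys ρ Om) (hf : Frm ρ Om f) (hS : IsPGroup 2 S)
    (hr : r ∈ Om) (hu : u ∈ Om) (e : f r u = 1) (hsr : ∀ s ∈ S, ρ s r = r)
    (hsu : ∀ s ∈ S, ρ s u = u ∨ ρ s u = r + u)
    (hfix : ∀ v : V, (∀ s ∈ S, ρ s v = v) → v = 0 ∨ v = r) (w : V) :
    w = 0 ∨ w = r ∨ w = u ∨ w = r + u := by
  have hno := hf.no_Z h hS hr hu e hsr hsu hfix
  have hc := hf.clo_of_no_Z h hr hu e hno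
  by_cases hw : w = 0
  · exact Or.inl hw
  · exact Or.inr (hf.three h hS hr hu e hsr hsu hfix
      (h.all_mem hc hr (h.near_all hc hS hr hfix) hw))

end

end Frm

/-- **TV (3)**, from `Small`: the line is given by an induced transvection with centre `r` moving `u`. -/
theorem Sys.four [Finite V] (h : Sys ρ Om) (hs : Sys.Small ρ Om) {S : Subgroup H} (hS : IsPGroup 2 S)
    {r u : V} (hr : r ∈ Om) (hu : u ∈ Om) (ha : Adj ρ r u) (hsr : ∀ s ∈ S, ρ s r = r)
    (hsu : ∀ s ∈ S, ρ s u = u ∨ ρ s u = r + u)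
    (hfix : ∀ v : V, (∀ s ∈ S, ρ s v = v) → v = 0 ∨ v = r) (w : V) :
    w = 0 ∨ w = r ∨ w = u ∨ w = r + u := by
  obtain ⟨f, hf⟩ := h.exists_form hs
  exact hf.four h hS hr hu ((hf.adj_iff hr).1 ha) hsr hsu hfix w

end Cfsg.Agent.Omega.TV
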