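import Cfsg.Agent.Omega.TV.Sym

/-!
# THEOREM TV (3) when `C_V(S) ≤ ⟨r⟩ + C_V(H)`

helper64 (bb #14186 (4a)), after helper304's `Sym.lean`: the hypothesis `C_V(S) = {0, r}` is weakened to
`C_V(S) ≤ ⟨r⟩ + C_V(H)`.
-/

set_option autoImplicit false

namespace Cfsg.Agent.Omega.TV

open Module

variable {H : Type*} [Group H] {V : Type*} [AddCommGroup V] [Module (ZMod 2) V]
  {ρ : H →* (V ≃ₗ[ZMod 2] V)} {Om : Set V} {f : V →ₗ[ZMod 2] V →ₗ[ZMod 2] ZMod 2}

/-- functionals of transvections kill the vectors fixed by `H` -/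
theorem Fn.fixed {u y : V} (hu : u ≠ 0) {φ : Dual (ZMod 2) V} (hφ : Fn ρ u φ) (hy : ∀ g : H, ρ g y = y) :
    φ y = 0 := by
  obtain ⟨_, g, hg⟩ := hφ
  have h1 := hg y
  rw [hy g] at h1
  have h2 : φ y • u = 0 := by simpa using h1
  exact (smul_eq_zero.1 h2).resolve_right hu

theorem Sys.rad_of_fixed (h : Sys ρ Om) {y : V} (hy : ∀ g : H, ρ g y = y) : y ∈ Sys.rad ρ Om :=
  fun _ hr _ hφ => hφ.fixed (h.ne_zero hr) hy

theorem Frm.fixed_eq (h : Sys ρ Om) (hf : Frm ρ Om f) {y : V} (hy : ∀ g : H, ρ g y = y) : f y = 0 :=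
  h.eq_zero_of fun s hs => by
    rw [hf.comm]
    exact (hf.fn s hs).fixed (h.ne_zero hs) hy

namespace Frm

variable {r u : V} {S : Subgroup H}

theorem no_Z' [Finite V] (h : Sys ρ Om) (hf : Frm ρ Om f) (hS : IsPGroup 2 S)
    (hr : r ∈ Om) (hu : u ∈ Om) (e : f r u = 1) (hsr : ∀ s ∈ S, ρ s r = r)
    (hsu : ∀ s ∈ S, ρ s u = u ∨ ρ s u = r + u)
    (hfix : ∀ v : V, (∀ s ∈ S, ρ s v = v) → ∃ y, (∀ g : H, ρ g y = y) ∧ (v = y ∨ v = r + y)) (x : V) :
    ¬ Z Om f r u x := by
  classical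
  intro hx
  have : Fintype V := Fintype.ofFinite V
  let A : Finset V := Finset.univ.filter fun z => Z Om f r u z
  have hA : ∀ z, z ∈ A ↔ Z Om f r u z := fun z => by simp [A]
  have hinv : ∀ s ∈ S, ∀ z, Z Om f r u z → Z Om f r u (ρ s z) := fun s hs z hz =>
    hz.act h hf (hsr s hs) (hsu s hs)
  have hcard : (A.card : ZMod 2) = 0 := by
    let _act : MulAction S {z // Z Om f r u z} :=
      { smul := fun s z => ⟨ρ (s : H) z, hinv s s.2 z z.2⟩
        one_smul := fun z => Subtype.ext (by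
          show ρ ((1 : S) : H) (z : V) = z
          rw [Subgroup.coe_one, rone])
        mul_smul := fun s t z => Subtype.ext (by
          show ρ ((s * t : S) : H) (z : V) = ρ (s : H) (ρ (t : H) z)
          rw [Subgroup.coe_mul, rmul]) }
    have h1 := hS.card_modEq_card_fixedPoints {z // Z Om f r u z}
    have h2 : Nat.card (MulAction.fixedPoints S {z // Z Om f r u z}) = 0 := by
      rw [Nat.card_eq_zero]
      left
      refine ⟨fun z => ?_⟩
      have h3 : ∀ s ∈ S, ρ s (z : {z // Z Om f r u z}).1 = (z : {z // Z Om f r u z}).1 := fun s hs =>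
        congrArg Subtype.val (z.2 ⟨s, hs⟩)
      have hz := (z : {z // Z Om f r u z}).2
      obtain ⟨y, hy, h4 | h4⟩ := hfix _ h3
      · have hm := hz.mem
        rw [h4] at hm
        have f1 := hf.fn _ hm
        rw [map_add, hf.fixed_eq h hy, add_zero] at f1
        have f2 := (hf.fn r hr).addc f1
        rw [self_add_add] at f2
        exact hz.ne (h4.trans (h.no_rad_centre hr (h.rad_of_fixed hy) (hf.fn r hr) f2 (hf.ne r hr)))
      · have h5 := hz.pu
        rw [h4, map_add, hf.comm u r, e, (hf.fn u hu).fixed (h.ne_zero hu) hy, add_zero] at h5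
        exact one_ne_zero h5
    have h3 : Nat.card {z // Z Om f r u z} = A.card := by
      rw [Nat.card_eq_fintype_card, Fintype.card_subtype]
    rw [h2, h3] at h1
    exact (ZMod.natCast_eq_zero_iff _ _).2 ((Nat.modEq_zero_iff_dvd).1 h1)
  have hσ : f x (∑ z ∈ A, z) = 0 := by
    obtain ⟨y, hy, h1 | h1⟩ :=
      hfix _ (sum_fixed (ρ := ρ) A fun s hs z hz => (hA _).2 (hinv s hs z ((hA z).1 hz)))
    · rw [h1, hf.comm, hf.fixed_eq h hy, LinearMap.zero_apply]
    · rw [h1, map_add, hf.comm x r, hx.pr, hf.comm, hf.fixed_eq h hy, LinearMap.zero_apply, add_zero]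
  have hs1 : ∑ z ∈ A, (1 + f x z) = 0 := by
    rw [Finset.sum_add_distrib, Finset.sum_const, nsmul_eq_mul, mul_one, hcard, zero_add, ← map_sum]
    exact hσ
  have hs2 : ∑ z ∈ A.erase x, (1 + f x z) = 0 := by
    refine Finset.sum_involution (fun z _ => if f x z = 0 then x + z else z) ?_ ?_ ?_ ?_
    · intro z hz
      by_cases h0 : f x z = 0
      · simp only [if_pos h0, map_add, hf.alt, zero_add]
        exact z2_add_self _
      · simp only [if_neg h0]
        exact z2_add_self _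
    · intro z hz hne
      have h0 : f x z = 0 := by
        by_contra h0
        rw [z2_ne_zero h0] at hne
        exact hne (z2_add_self 1)
      simp only [if_pos h0]
      intro e'
      exact hx.ne (by simpa using e')
    · intro z hz
      rw [Finset.mem_erase] at hz
      by_cases h0 : f x z = 0
      · simp only [if_pos h0]
        rw [Finset.mem_erase]
        refine ⟨?_, (hA _).2 (hx.add h hf hr hu e ((hA _).1 hz.2) h0 hz.1.symm)⟩
        intro e'
        exact ((hA _).1 hz.2).ne (by simpa using e')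
      · simp only [if_neg h0]
        rw [Finset.mem_erase]
        exact hz
    · intro z hz
      by_cases h0 : f x z = 0
      · simp only [if_pos h0, map_add, hf.alt, zero_add, self_add_add]
      · simp only [if_neg h0]
  rw [← Finset.add_sum_erase A (fun z => 1 + f x z) ((hA x).2 hx), hs2, hf.alt, add_zero, add_zero] at hs1
  exact one_ne_zero hs1

/-- **TV (3)** with `C_V(S) ≤ ⟨r⟩ + C_V(H)` : `V = {0, r, u, r + u}`. -/
theorem four' [Finite V] (h : Sys ρ Om) (hf : Frm ρ Om f) (hS : IsPGroup 2 S)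
    (hr : r ∈ Om) (hu : u ∈ Om) (e : f r u = 1) (hsr : ∀ s ∈ S, ρ s r = r)
    (hsu : ∀ s ∈ S, ρ s u = u ∨ ρ s u = r + u)
    (hfix : ∀ v : V, (∀ s ∈ S, ρ s v = v) → ∃ y, (∀ g : H, ρ g y = y) ∧ (v = y ∨ v = r + y)) (w : V) :
    w = 0 ∨ w = r ∨ w = u ∨ w = r + u := by
  have hno := hf.no_Z' h hS hr hu e hsr hsu hfix
  have hc := hf.clo_of_no_Z h hr hu e hno
  have hrad := Sys.rad_eq_bot_of h fun b hb c hc' hn hne => (hc b hb c hc' hn hne).1
  have h0 : ∀ y : V, (∀ g : H, ρ g y = y) → y = 0 := fun y hy => by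
    have := h.rad_of_fixed hy
    rwa [hrad, Submodule.mem_bot] at this
  refine hf.four h hS hr hu e hsr hsu (fun v hv => ?_) w
  obtain ⟨y, hy, h1 | h1⟩ := hfix v hv
  · left; rw [h1, h0 y hy]
  · right; rw [h1, h0 y hy, add_zero]

end Frm

/-- **TV (3)**, from `Small`, with `C_V(S) ≤ ⟨r⟩ + C_V(H)`. -/
theorem Sys.four' [Finite V] (h : Sys ρ Om) (hs : Sys.Small ρ Om) {S : Subgroup H} (hS : IsPGroup 2 S)
    {r u : V} (hr : r ∈ Om) (hu : u ∈ Om) (ha : Adj ρ r u) (hsr : ∀ s ∈ S, ρ s r = r)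
    (hsu : ∀ s ∈ S, ρ s u = u ∨ ρ s u = r + u)
    (hfix : ∀ v : V, (∀ s ∈ S, ρ s v = v) → ∃ y, (∀ g : H, ρ g y = y) ∧ (v = y ∨ v = r + y)) (w : V) :
    w = 0 ∨ w = r ∨ w = u ∨ w = r + u := by
  obtain ⟨f, hf⟩ := h.exists_form hs
  exact hf.four' h hS hr hu ((hf.adj_iff hr).1 ha) hsr hsu hfix w

end Cfsg.Agent.Omega.TV
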